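import Cfsg.Agent.Lib.TensorSympPair.Coeff
import Cfsg.Agent.Lib.GeomClasses.OrthEich

/-!
Transvection coefficients give root elements on all pure tensors, hence the whole of `Ω`.
-/

set_option autoImplicit false
set_option linter.unusedSectionVars false
set_option linter.unusedSimpArgs false
set_option linter.style.haveILetI false

namespace CfsgLib.TensorSympPair

open Matrix Module QuadraticMap
open CfsgLib.GeomClasses CfsgLib.GeomClasses.TensorMax
open CfsgLib.Orth (O app eich app_eich)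

section
variable {F : Type*} [Field F] {ι : Type} [Fintype ι] [DecidableEq ι] {q : QuadraticForm F (ι → F)}

theorem eich_antisymm {p r : ι → F} (hp : q p = 0) (hr : q r = 0) (hpr : polar q p r = 0) :
    eich q p r = eich q r (-p) :=
  CfsgLib.Orth.ext_app fun x => by
    have hrp : polar q r p = 0 := by rwa [polar_comm]
    rw [app_eich hp hpr, app_eich hr (by rw [polar_neg_right, hrp, neg_zero]), polar_neg_right,
      QuadraticMap.map_neg, hp, hr]
    module

/-- Two root elements with pairing one give the composite root element. -/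
theorem eich_step {M : Subgroup (O q)} {p r s t : ι → F} (hp : q p = 0) (hr : q r = 0) (hs : q s = 0)
    (ht : q t = 0) (hpr : polar q p r = 0) (hst : polar q s t = 0) (hps : polar q p s = 0)
    (hpt : polar q p t = 0) (hrt : polar q r t = 0) (hrs : polar q r s = 1)
    (h1 : eich q p r ∈ M) (h2 : eich q s t ∈ M) : eich q p t ∈ M := by
  have h3 := M.mul_mem (M.mul_mem h1 h2) (M.inv_mem h1)
  rw [CfsgLib.Orth.eich_conj hs hst] at h3
  have hgs : app (eich q p r) s = s - p := by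
    rw [app_eich hp hpr, polar_comm (f := ⇑q) s p, hps, polar_comm (f := ⇑q) s r, hrs, hr]
    module
  have hgt : app (eich q p r) t = t := by
    rw [app_eich hp hpr, polar_comm (f := ⇑q) t p, hpt, polar_comm (f := ⇑q) t r, hrt, hr]
    module
  have hq' : q (s - p) = 0 := by
    rw [sub_eq_add_neg, QuadraticMap.map_add ⇑q, QuadraticMap.map_neg, hs, hp, polar_neg_right,
      polar_comm (f := ⇑q) s p, hps]
    ring
  have hpol : polar q (s - p) t = 0 := by rw [polar_sub_left, hst, hpt, sub_zero]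
  rw [hgs, hgt, eich_antisymm hq' ht hpol] at h3
  rw [eich_antisymm hs ht hst] at h2
  have htp : polar q t p = 0 := by rwa [polar_comm]
  have hts : polar q t (-s) = 0 := by rw [polar_neg_right, polar_comm, hst, neg_zero]
  have h4 : eich q t (-(s - p)) = eich q t p * eich q t (-s) := by
    rw [CfsgLib.Orth.eich_add ht htp hts]; congr 1; abel
  rw [h4] at h3
  have h5 := (M.mul_mem_cancel_right h2).1 h3
  have h6 : eich q t p = (eich q p t)⁻¹ := by
    rw [eq_inv_iff_mul_eq_one, eich_antisymm hp ht hpt, CfsgLib.Orth.eich_add ht htp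
      (by rw [polar_neg_right, htp, neg_zero]), add_neg_cancel, ← zero_smul F t, CfsgLib.Orth.eich_smul_self ht]
  rw [h6] at h5
  exact inv_mem_iff.1 h5

end

variable {F : Type*} [Field F] {a b : ℕ}

attribute [-simp] Matrix.coe_units_inv

namespace Over

variable {D : Data F a b} {H : Subgroup (GL (Fin a × Fin b) F)} (S : Over D H)
include S

/-- The overgroup inside the isometry group. -/
noncomputable def inO (_S : Over D H) : Subgroup (O D.q) := H.comap (O D.q).subtype

theorem root_mem (htrv : ∀ u, Coeff D H (trv D u)) {z w : Fin b → F} (hz : z ≠ 0)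
    (hw : ∀ c : F, w ≠ c • z) (hzw : D.γ z w = 0) (u : Fin a → F) :
    eich D.q (pl w u) (pl z u) ∈ S.inO := by
  show ((eich D.q (pl w u) (pl z u) : O D.q) : GL (Fin a × Fin b) F) ∈ H
  have hadj : D.adj (trv D u) = -trv D u := D.adj_eq fun p r => by
    simp only [trv, LinearMap.smulRight_apply, LinearMap.neg_apply, map_neg, map_smul, LinearMap.smul_apply,
      smul_eq_mul, D.β_flip u p]
    ring
  have hpol : polar D.q (pl w u) (pl z u) = 0 := by rw [D.polar_pl, D.β_self, zero_mul]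
  have he : ((eich D.q (pl w u) (pl z u) : O D.q) : GL (Fin a × Fin b) F) = el (D.e0 z w (trv D u)) := by
    refine gl_ext fun x => ?_
    rw [← CfsgLib.Orth.app_apply, app_eich (D.q_pl u w) hpol, el_mulVec (D.e0_sq hzw _), D.e0_apply, hadj,
      D.q_pl, D.polar_pl_right, D.polar_pl_right, trv, LinearMap.neg_apply, LinearMap.smulRight_apply,
      LinearMap.smulRight_apply, map_neg, map_smul, map_smul]
    module
  rw [he]
  exact htrv u z w hz hw hzw

/-- Mixed root elements. -/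
theorem mixed_mem (htrv : ∀ u, Coeff D H (trv D u)) {w w' : Fin b → F} (hw : w ≠ 0) (hw' : w' ≠ 0)
    (hww : D.γ w w' = 0) {u v : Fin a → F} (huv : D.β u v ≠ 0) :
    eich D.q (pl w u) (pl w' v) ∈ S.inO := by
  obtain ⟨z, z₁, hwz, hw'z, hwz₁, hw'z₁, hzz₁⟩ := D.exists_plane (z := w) (y := w') S.five_le
  set z' := (D.β u v)⁻¹ • z₁ with hz'
  have hwz' : D.γ w z' = 0 := by rw [hz', map_smul, hwz₁, smul_zero]
  have hw'z' : D.γ w' z' = 0 := by rw [hz', map_smul, hw'z₁, smul_zero]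
  have hzz' : D.γ z z' = (D.β u v)⁻¹ := by rw [hz', map_smul, hzz₁, smul_eq_mul, mul_one]
  have hk : (D.β u v)⁻¹ ≠ 0 := inv_ne_zero huv
  have hz0 : z ≠ 0 := fun h => hk (by rw [← hzz', h, map_zero]; rfl)
  have hz'0 : z' ≠ 0 := fun h => hk (by rw [← hzz', h, map_zero])
  have hind : ∀ c : F, w ≠ c • z := fun c hc => by
    have h1 : c * D.γ z z' = 0 := by
      rw [← smul_eq_mul, ← LinearMap.smul_apply, ← map_smul, ← hc, hwz']
    rw [hzz'] at h1
    exact hw (by rw [hc, (mul_eq_zero.1 h1).resolve_right hk, zero_smul])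
  have hind' : ∀ c : F, z' ≠ c • w' := fun c hc => by
    have h1 := hzz'
    rw [hc, map_smul, D.γ_zero _ _ hw'z, smul_zero] at h1
    exact hk h1.symm
  refine eich_step (r := pl z u) (s := pl z' v) (D.q_pl u w) (D.q_pl u z) (D.q_pl v z') (D.q_pl v w')
    ?_ ?_ ?_ ?_ ?_ ?_ (S.root_mem htrv hz0 hind (D.γ_zero _ _ hwz) u) (S.root_mem htrv hw' hind' hw'z' v)
  all_goals rw [D.polar_pl]
  · rw [D.β_self, zero_mul]
  · rw [D.β_self, zero_mul]
  · rw [hwz', mul_zero]
  · rw [hww, mul_zero]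
  · rw [D.γ_zero _ _ hw'z, mul_zero]
  · rw [hzz', mul_inv_cancel₀ huv]

/-- Every pure tensor is a full centre. -/
theorem full_pure (htrv : ∀ u, Coeff D H (trv D u)) {w₀ : Fin b → F} (hw₀ : w₀ ≠ 0) {u₀ : Fin a → F}
    (hu₀ : u₀ ≠ 0) : OrthEich.Full S.inO (pl w₀ u₀) := by
  classical
  set p := pl w₀ u₀ with hp
  have hqp : D.q p = 0 := D.q_pl u₀ w₀
  refine ⟨hqp, fun x hx => ?_⟩
  let Ψ : AddSubgroup (V2 F a b) :=
    { carrier := {y | polar D.q p y = 0 ∧ eich D.q p y ∈ S.inO}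
      zero_mem' := ⟨polar_zero_right D.q p, by
        rw [← zero_smul F p, CfsgLib.Orth.eich_smul_self hqp]; exact S.inO.one_mem⟩
      add_mem' := fun {y y'} hy hy' => ⟨by rw [polar_add_right, hy.1, hy'.1, add_zero], by
        rw [← CfsgLib.Orth.eich_add hqp hy.1 hy'.1]; exact S.inO.mul_mem hy.2 hy'.2⟩
      neg_mem' := fun {y} hy => ⟨by rw [polar_neg_right, hy.1, neg_zero], by
        have h1 : polar D.q p (-y) = 0 := by rw [polar_neg_right, hy.1, neg_zero]
        have h2 : eich D.q p (-y) = (eich D.q p y)⁻¹ := by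
          rw [eq_inv_iff_mul_eq_one, CfsgLib.Orth.eich_add hqp h1 hy.1, neg_add_cancel, ← zero_smul F p,
            CfsgLib.Orth.eich_smul_self hqp]
        rw [h2]; exact S.inO.inv_mem hy.2⟩ }
  suffices hxΨ : x ∈ Ψ from hxΨ.2
  obtain ⟨f, hf₀, hf⟩ := D.exists_β_dual (x := 0) (y := u₀) (fun c hc => hu₀ (by rw [hc, smul_zero]))
  have hfu : D.β u₀ f ≠ 0 := by rw [D.β_flip f u₀, hf]; simp
  -- right factor orthogonal to `w₀`
  have hb : ∀ w' u', D.γ w₀ w' = 0 → pl w' u' ∈ Ψ := by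
    have h1 : ∀ w' v, D.γ w₀ w' = 0 → w' ≠ 0 → D.β u₀ v ≠ 0 → pl w' v ∈ Ψ := fun w' v hw' h0 hv =>
      ⟨by rw [hp, D.polar_pl, hw', mul_zero], S.mixed_mem htrv hw₀ h0 hw' hv⟩
    intro w' u' hw'
    rcases eq_or_ne w' 0 with rfl | h0
    · rw [pl_zero_left]; exact Ψ.zero_mem
    by_cases hv : D.β u₀ u' = 0
    · have := Ψ.sub_mem (h1 w' (u' + f) hw' h0 (by rw [map_add, hv, zero_add]; exact hfu)) (h1 w' f hw' h0 hfu)
      rwa [map_add, add_sub_cancel_right] at this
    · exact h1 w' u' hw' h0 hv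
  obtain ⟨x₀, hx₀⟩ := D.exists_pair_one hw₀
  have hx₀0 : x₀ ≠ 0 := fun h => by rw [h, map_zero] at hx₀; exact zero_ne_one hx₀
  -- one vector not orthogonal to `w₀`
  have hc : ∀ u', D.β u₀ u' = 0 → pl x₀ u' ∈ Ψ := by
    intro u' hu'
    refine ⟨by rw [hp, D.polar_pl, hu', zero_mul], ?_⟩
    rcases eq_or_ne u' 0 with rfl | hu'0
    · rw [map_zero, ← zero_smul F p, CfsgLib.Orth.eich_smul_self hqp]; exact S.inO.one_mem
    obtain ⟨v, hv₀, hv⟩ := D.exists_β_dual (x := 0) (y := u₀) (fun c hc => hu₀ (by rw [hc, smul_zero]))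
    have hu₀v : D.β u₀ v = -1 := by rw [D.β_flip v u₀, hv]
    have hvu' : ∀ c : F, u' ≠ c • v := fun c hc => by
      have h1 := hu'
      rw [hc, map_smul, hu₀v, smul_eq_mul, mul_neg, mul_one, neg_eq_zero] at h1
      exact hu'0 (by rw [hc, h1, zero_smul])
    have hv0 : v ≠ 0 := fun h => by rw [h, map_zero] at hv; exact zero_ne_one hv
    obtain ⟨u₁, h11, h12⟩ := D.exists_β_dual hvu'
    obtain ⟨u₂, h21, h22⟩ := D.exists_β_dual (indep_symm hv0 hvu')
    set u'' := u₁ + u₂ with hu''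
    have hu''u' : D.β u'' u' = 1 := by rw [hu'', map_add, LinearMap.add_apply, h12, h21, add_zero]
    have hvu'' : D.β v u'' = -1 := by
      rw [D.β_flip u'' v, hu'', map_add, LinearMap.add_apply, h11, h22, zero_add]
    obtain ⟨w', y, hw₀w', hx₀w', hw₀y, hx₀y, hw'y⟩ := D.exists_plane (z := w₀) (y := x₀) S.five_le
    have hw'0 : w' ≠ 0 := fun h => by rw [h, map_zero] at hw'y; exact zero_ne_one hw'y
    have hy0 : y ≠ 0 := fun h => by rw [h, map_zero] at hw'y; exact zero_ne_one hw'y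
    have hyx : D.γ (-y) x₀ = 0 := by rw [map_neg, LinearMap.neg_apply, D.γ_zero _ _ hx₀y, neg_zero]
    refine eich_step (r := pl w' v) (s := pl (-y) u'') (t := pl x₀ u') hqp (D.q_pl v w') (D.q_pl _ _)
      (D.q_pl u' x₀) ?_ ?_ ?_ ?_ ?_ ?_ (S.mixed_mem htrv hw₀ hw'0 hw₀w' (by rw [hu₀v]; simp))
      (S.mixed_mem htrv (neg_ne_zero.2 hy0) hx₀0 hyx (by rw [hu''u']; exact one_ne_zero))
    all_goals simp only [hp, D.polar_pl]
    · rw [hw₀w', mul_zero]
    · rw [hyx, mul_zero]
    · rw [map_neg, hw₀y, neg_zero, mul_zero]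
    · rw [hu', zero_mul]
    · rw [D.γ_zero _ _ hx₀w', mul_zero]
    · rw [hvu'', map_neg, hw'y, neg_mul_neg, one_mul]
  set k := D.cw w₀ x with hk
  have hβk : D.β u₀ k = 0 := by rw [hk, ← D.polar_pl_right, polar_comm]; exact hx
  set x' := x - pl x₀ k with hx'
  have hcx' : D.cw w₀ x' = 0 := by rw [hx', map_sub, D.cw_pl, hx₀, one_smul, sub_self]
  have hx'Ψ : x' ∈ Ψ := by
    have hdec : x' = ∑ j, pl (Pi.single j 1 - D.γ w₀ (Pi.single j 1) • x₀) (C (Pi.single j 1) x') := by
      have hsum : ∑ j, D.γ w₀ (Pi.single j 1) • C (Pi.single j 1) x' = 0 := by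
        have h1 := congrArg (D.cw w₀) (eq_sum x')
        rw [hcx', map_sum] at h1
        simp only [D.cw_pl] at h1
        exact h1.symm
      calc x' = ∑ j, pl (Pi.single j 1) (C (Pi.single j 1) x') := eq_sum x'
        _ = _ := by
          simp only [pl_sub_left, pl_smul_left, Finset.sum_sub_distrib, ← map_smul (pl x₀), ← map_sum (pl x₀), hsum, map_zero,
            sub_zero]
    rw [hdec]
    exact Ψ.sum_mem fun j _ => hb _ _ (by rw [map_sub, map_smul, hx₀, smul_eq_mul, mul_one, sub_self])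
  have := Ψ.add_mem hx'Ψ (hc k hβk)
  rwa [hx', sub_add_cancel] at this

/-- An extra gives the whole of `Ω`. -/
theorem commutator_le_inO [Fintype F] (hex : ¬ (a = 2 ∧ ∀ c : F, c = 0 ∨ c = 1)) (hx : Extra D H) :
    commutator (O D.q) ≤ S.inO := by
  have htrv := fun u => S.coeff_trv hex hx u
  have hn : 7 ≤ Fintype.card (Fin a × Fin b) := by
    rw [Fintype.card_prod, Fintype.card_fin, Fintype.card_fin]
    have := Nat.mul_le_mul S.two_le S.five_le
    omega
  have hq : D.q.polarBilin.Nondegenerate := by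
    refine ⟨fun x hx => D.eq_zero_of_polar fun u w => hx (pl w u), fun x hx => D.eq_zero_of_polar fun u w => ?_⟩
    rw [polar_comm]
    exact hx (pl w u)
  obtain ⟨w₀, hw₀⟩ : ∃ w : Fin b → F, w ≠ 0 := ⟨Pi.single ⟨0, by have := S.five_le; omega⟩ 1, by simp⟩
  obtain ⟨u₀, hu₀⟩ : ∃ u : Fin a → F, u ≠ 0 := ⟨Pi.single ⟨0, by have := S.two_le; omega⟩ 1, by simp⟩
  obtain ⟨x₀, hx₀⟩ := D.exists_pair_one hw₀
  obtain ⟨f, hf₀, hf⟩ := D.exists_β_dual (x := 0) (y := u₀) (fun c hc => hu₀ (by rw [hc, smul_zero]))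
  refine OrthEich.commutator_le_of_pair hq hn (S.full_pure htrv hw₀ hu₀)
    (S.full_pure htrv (w₀ := x₀) (u₀ := f) (fun h => by rw [h, map_zero] at hx₀; exact zero_ne_one hx₀)
      (fun h => by rw [h, map_zero] at hf; exact zero_ne_one hf)) ?_
  rw [D.polar_pl, hf, D.γ_flip w₀ x₀, hx₀]
  simp

end Over

end CfsgLib.TensorSympPair
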