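import Cfsg.Agent.Lib.TensorSympPair.Moves
import Cfsg.Agent.Lib.TensorSympPair.Roots
import Cfsg.Agent.Lib.AutPSp.SympBasis
import Cfsg.Agent.Lib.Sp.InvolutionClasses
import Cfsg.Agent.Lib.GeomClasses.Symp

/-!
The stabiliser of a tensor product of two symplectic forms is maximal in `Ω⁺`.
-/

set_option autoImplicit false
set_option linter.unusedSectionVars false
set_option linter.unusedSimpArgs false
set_option linter.style.haveILetI false

namespace CfsgLib.TensorSympPair

open Matrix Module QuadraticMap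
open CfsgLib.GeomClasses CfsgLib.GeomClasses.TensorMax
open CfsgLib.Orth (O app eich app_eich)
open scoped Kronecker

attribute [-simp] Matrix.coe_units_inv

/-- A symplectic expansion. -/
theorem exists_expansion {F : Type*} [Field F] {V : Type*} [AddCommGroup V] [Module F V] [FiniteDimensional F V]
    (B : LinearMap.BilinForm F V) (hA : B.IsAlt) (hB : B.Nondegenerate) :
    ∃ (k : ℕ) (e f : Fin k → V), (∀ i j, B (e i) (e j) = 0) ∧ (∀ i j, B (f i) (f j) = 0) ∧
      ∀ u, u = ∑ i, (B (f i) u • e i - B (e i) u • f i) := by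
  obtain ⟨k, hk⟩ := CfsgLib.SpInvClasses.even_finrank B hA hB.1
  obtain ⟨e, f, hee, hff, hef⟩ := CfsgLib.AutPSp.exists_symp_family B hA hB.1 k hk.ge
  refine ⟨k, e, f, hee, hff, fun u => ?_⟩
  let Φ : V →ₗ[F] (Fin k → F) × (Fin k → F) :=
    (LinearMap.pi fun i => B (e i)).prod (LinearMap.pi fun i => B (f i))
  have hfe : ∀ i j, B (f i) (e j) = if j = i then 1 else 0 := fun i j => by
    rw [CfsgLib.Sp.alt_flip hA (e j) (f i), hef]; split_ifs <;> simp
  have hsur : Function.Surjective Φ := fun p => ⟨∑ j, (p.2 j • e j - p.1 j • f j), by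
    refine Prod.ext (funext fun i => ?_) (funext fun i => ?_) <;>
      simp [Φ, map_sum, hee, hff, hef, hfe, Finset.sum_ite_eq]⟩
  have hinj : Function.Injective Φ :=
    (LinearMap.injective_iff_surjective_of_finrank_eq_finrank (by
      rw [Module.finrank_prod, Module.finrank_fintype_fun_eq_card, Fintype.card_fin, hk]; omega)).2 hsur
  refine hinj (Prod.ext (funext fun i => ?_) (funext fun i => ?_)) <;>
    simp [Φ, map_sum, hee, hff, hef, hfe, Finset.sum_ite_eq]

namespace Data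

variable {F : Type*} [Field F] {a b : ℕ} (D : Data F a b)

theorem nondegenerate : D.q.polarBilin.Nondegenerate := by
  refine ⟨fun x hx => D.eq_zero_of_polar fun u w => hx (pl w u), fun x hx => D.eq_zero_of_polar fun u w => ?_⟩
  rw [polar_comm]
  exact hx (pl w u)

/-- `Ω` inside the general linear group. -/
noncomputable def omega : Subgroup (GL (Fin a × Fin b) F) := (commutator (O D.q)).map (O D.q).subtype

theorem sum_mem [Fintype F] (hn : 7 ≤ Fintype.card (Fin a × Fin b)) {κ : Type*} [DecidableEq κ] (s : Finset κ)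
    (p r : κ → V2 F a b) (hp : ∀ i, D.q (p i) = 0) (hr : ∀ i, D.q (r i) = 0)
    (hpp : ∀ i j, polar D.q (p i) (p j) = 0) (hrr : ∀ i j, polar D.q (r i) (r j) = 0)
    (hpr : ∀ i j, polar D.q (p i) (r j) = 0) :
    ∃ g ∈ commutator (O D.q),
      ∀ x, app g x = x + ∑ i ∈ s, (polar D.q x (p i) • r i - polar D.q x (r i) • p i) := by
  induction s using Finset.induction_on with
  | empty => exact ⟨1, one_mem _, fun x => by simp⟩
  | insert i s hi ih =>
    obtain ⟨g, hg, hgx⟩ := ih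
    refine ⟨eich D.q (p i) (r i) * g, mul_mem (OrthEich.eich_mem D.nondegenerate hn (hp i) (hpr i i)) hg,
      fun x => ?_⟩
    have hrp : ∀ i j, polar D.q (r i) (p j) = 0 := fun i j => by rw [polar_comm]; exact hpr j i
    have h1 : ∀ v, (∀ j, polar D.q (r j) v = 0) → (∀ j, polar D.q (p j) v = 0) →
        polar D.q (∑ j ∈ s, (polar D.q x (p j) • r j - polar D.q x (r j) • p j)) v = 0 := fun v h h' => by
      rw [← QuadraticMap.polarBilin_apply_apply, map_sum, LinearMap.sum_apply]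
      refine Finset.sum_eq_zero fun j _ => ?_
      simp [h, h']
    rw [CfsgLib.Orth.app_mul, app_eich (hp i) (hpr i i), hgx, hr i, polar_add_left, polar_add_left,
      h1 _ (fun j => hrp j i) (fun j => hpp j i), h1 _ (fun j => hrr j i) (fun j => hpr j i),
      Finset.sum_insert hi]
    module

theorem rightT_mem [Fintype F] (hn : 7 ≤ Fintype.card (Fin a × Fin b)) (s : Fin b → F) (c : F) :
    el (ten LinearMap.id (c • D.gv s) s : V2 F a b →ₗ[F] V2 F a b) ∈ D.omega := by
  classical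
  obtain ⟨k, e, f, hee, hff, hu⟩ := exists_expansion D.β D.βalt D.βnd
  obtain ⟨g, hg, hgx⟩ := D.sum_mem hn Finset.univ (fun i => pl s (f i)) (fun i => pl s (c • e i))
    (fun i => D.q_pl _ _) (fun i => D.q_pl _ _) (fun i j => by rw [D.polar_pl, D.γ_self, mul_zero])
    (fun i j => by rw [D.polar_pl, D.γ_self, mul_zero]) (fun i j => by rw [D.polar_pl, D.γ_self, mul_zero])
  refine ⟨g, hg, gl_ext fun x => ?_⟩
  show app g x = _
  rw [hgx, el_mulVec (ten_sq _ (by rw [smul_dotProduct, D.gv_dot, D.γ_self, smul_zero])), ten_apply,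
    LinearMap.id_apply, C_smul, D.C_gv]
  conv_rhs => rw [hu (D.cw s x), Finset.smul_sum, map_sum]
  simp only [D.polar_pl_right, map_sub, map_smul, QuadraticMap.polar_smul_right, smul_sub, smul_smul, LinearMap.smul_apply, smul_eq_mul]
  congr 1
  exact Finset.sum_congr rfl fun i _ => by module

theorem leftT_mem [Fintype F] (hn : 7 ≤ Fintype.card (Fin a × Fin b)) (u : Fin a → F) (c : F) :
    el (tu (D.bv u) (c • u) : V2 F a b →ₗ[F] V2 F a b) ∈ D.omega := by
  classical
  obtain ⟨k, e, f, hee, hff, hw⟩ := exists_expansion D.γ D.γalt D.γnd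
  obtain ⟨g, hg, hgx⟩ := D.sum_mem hn Finset.univ (fun i => pl (f i) u) (fun i => pl (c • e i) u)
    (fun i => D.q_pl _ _) (fun i => D.q_pl _ _) (fun i j => by rw [D.polar_pl, D.β_self, zero_mul])
    (fun i j => by rw [D.polar_pl, D.β_self, zero_mul]) (fun i j => by rw [D.polar_pl, D.β_self, zero_mul])
  refine ⟨g, hg, gl_ext fun x => ?_⟩
  show app g x = _
  rw [hgx, el_mulVec (tu_sq (by rw [dotProduct_smul, D.bv_dot, D.β_self, smul_zero])), tu_apply]
  conv_rhs => rw [hw (TensorMax.D (D.bv u) x), map_sum]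
  simp only [D.polar_pl_right, pl_smul_left, QuadraticMap.polar_smul_right, ← D.dot_cw, D.bv_dot, D.cw_smul, map_sub, map_smul, pr_eq,
    smul_sub, smul_smul, smul_eq_mul]
  congr 1
  exact Finset.sum_congr rfl fun i _ => by module

theorem exists_not_kronecker [Fintype F] (ha : 2 ≤ a) (hb : 5 ≤ b) :
    ∃ k ∈ D.omega, k ∉ Cfsg.Geo.kroneckerSubgroup a b F := by
  have hn : 7 ≤ Fintype.card (Fin a × Fin b) := by
    rw [Fintype.card_prod, Fintype.card_fin, Fintype.card_fin]
    have := Nat.mul_le_mul ha hb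
    omega
  obtain ⟨u, hu⟩ : ∃ u : Fin a → F, u ≠ 0 := ⟨Pi.single ⟨0, by omega⟩ 1, by simp⟩
  obtain ⟨f, -, hfu⟩ := D.exists_β_dual (x := 0) (y := u) (fun c hc => hu (by rw [hc, smul_zero]))
  have huf : D.β u f = -1 := by rw [D.β_flip f u, hfu]
  obtain ⟨z, hz⟩ : ∃ z : Fin b → F, z ≠ 0 := ⟨Pi.single ⟨0, by omega⟩ 1, by simp⟩
  obtain ⟨x, hx⟩ := D.exists_pair_one hz
  obtain ⟨w, w', hzw, hxw, -, -, hww'⟩ := D.exists_plane (z := z) (y := x) hb
  have hw0 : w ≠ 0 := fun h => by rw [h, map_zero] at hww'; exact zero_ne_one hww'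
  have hpol : polar D.q (pl z u) (pl x u) = 0 := by rw [D.polar_pl, D.β_self, zero_mul]
  refine ⟨_, ⟨eich D.q (pl z u) (pl x u), OrthEich.eich_mem D.nondegenerate hn (D.q_pl _ _) hpol, rfl⟩, ?_⟩
  rintro ⟨A, B, hAB⟩
  have happ : ∀ y, app (eich D.q (pl z u) (pl x u)) y =
      ((A : Matrix (Fin a) (Fin a) F) ⊗ₖ (B : Matrix (Fin b) (Fin b) F)) *ᵥ y :=
    fun y => by rw [← hAB]; rfl
  have h1 := happ (pl z f)
  have h2 := happ (pl w f)
  rw [app_eich (D.q_pl _ _) hpol, kronecker_mulVec_pl, D.polar_pl, D.polar_pl, D.q_pl, D.γ_self, hx, hfu] at h1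
  rw [app_eich (D.q_pl _ _) hpol, kronecker_mulVec_pl, D.polar_pl, D.polar_pl, D.q_pl, D.γ_zero _ _ hzw,
    D.γ_zero _ _ hxw] at h2
  have hBz : (B : Matrix (Fin b) (Fin b) F) *ᵥ z ≠ 0 := gl_mulVec_ne_zero B hz
  have hBw : (B : Matrix (Fin b) (Fin b) F) *ᵥ w ≠ 0 := gl_mulVec_ne_zero B hw0
  obtain ⟨φ, hφ⟩ := exists_dot_eq_one hBz
  obtain ⟨ψ, hψ⟩ := exists_dot_eq_one hBw
  have e1 := congrArg (C φ) h1
  have e2 := congrArg (C ψ) h2
  simp only [map_add, map_smul, map_neg, C_pl, hφ, hψ, mul_zero, zero_smul, neg_zero, add_zero, zero_sub, sub_zero,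
    neg_mul, one_mul, mul_one, one_smul, neg_smul] at e1 e2
  rw [← e2] at e1
  have g1 := congrArg (D.β u) e1
  have g2 := congrArg (D.β f) e1
  simp only [map_add, map_smul, map_neg, D.β_self, huf, hfu, smul_eq_mul, smul_zero, mul_zero, mul_one, zero_add,
    add_zero, neg_zero, mul_neg] at g1 g2
  have hAf : (A : Matrix (Fin a) (Fin a) F) *ᵥ f ≠ 0 :=
    gl_mulVec_ne_zero A fun h => by rw [h, map_zero] at huf; exact zero_ne_one (by linear_combination -huf)
  refine hAf (e2.symm.trans ?_)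
  rw [show ψ ⬝ᵥ w = 0 by grind, zero_smul]

/-- Maximality in the coordinates of the tensor decomposition. -/
theorem maximal [Fintype F] (ha : 2 ≤ a) (hab : a + 2 ≤ b) (hb : 5 ≤ b)
    (hex : ¬ (a = 2 ∧ ∀ c : F, c = 0 ∨ c = 1)) :
    Cfsg.Geo.IsMaximalIn D.omega (Cfsg.Geo.kroneckerSubgroup a b F ⊓ D.omega) := by
  classical
  refine ⟨lt_of_le_of_ne inf_le_right fun heq => ?_, fun M h1 h2 => ?_⟩
  · obtain ⟨k, hk, hk'⟩ := D.exists_not_kronecker ha hb
    exact hk' (heq.ge hk).1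
  have hn : 7 ≤ Fintype.card (Fin a × Fin b) := by
    rw [Fintype.card_prod, Fintype.card_fin, Fintype.card_fin]
    have := Nat.mul_le_mul ha hb
    omega
  have hT : ∀ {ν s : Fin b → F}, ν ⬝ᵥ s = 0 →
      el (ten LinearMap.id ν s : V2 F a b →ₗ[F] V2 F a b) ∈ Cfsg.Geo.kroneckerSubgroup a b F :=
    fun h => (el_right_mem h).1
  have S : Over D M := by
    refine ⟨ha, hab, hb, fun g hg x => ?_, fun s c => h1 ⟨hT ?_, D.rightT_mem hn s c⟩,
      fun u c => h1 ⟨(el_left_mem ?_).1, D.leftT_mem hn u c⟩⟩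
    · obtain ⟨g', -, rfl⟩ := h2 hg
      exact CfsgLib.Orth.Q_app g' x
    · rw [smul_dotProduct, D.gv_dot, D.γ_self, smul_zero]
    · rw [dotProduct_smul, D.bv_dot, D.β_self, smul_zero]
  by_cases hx : Extra D M
  · exact Or.inr (le_antisymm h2 (Subgroup.map_le_iff_le_comap.2 (S.commutator_le_inO hex hx)))
  · refine Or.inl (le_antisymm (fun g hg => ⟨?_, h2 hg⟩) h1)
    obtain ⟨E, G, hG, h⟩ := S.pure_all hx hex hg
    exact tensor_mem (E := E.toLinearMap) E.injective hG fun u w => h u w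

end Data

section Transport

variable {F : Type*} [Field F] [Fintype F] {n a b : ℕ}

open CfsgLib.Maximal.TensorTools

theorem form_bilinear {m : ℕ} {f : (Fin m → F) → (Fin m → F) → F} (hf : Cfsg.Geo.IsSymplecticForm f) :
    (Symp.bil hf).IsAlt := fun x => hf.alternating x

/-- The stabiliser of a tensor product of two symplectic forms is maximal in `Ω`. -/
theorem maximal_tensor (ha : 2 ≤ a) (hab : a + 2 ≤ b) (hb : 5 ≤ b)
    (hex : ¬ (a = 2 ∧ ∀ c : F, c = 0 ∨ c = 1)) {Q : (Fin n → F) → F}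
    (hQ : Cfsg.Geo.IsNondegenerateQuadraticForm Q) (e : Fin n ≃ Fin a × Fin b) (P : GL (Fin n) F)
    {f₁ : (Fin a → F) → (Fin a → F) → F} {f₂ : (Fin b → F) → (Fin b → F) → F}
    (hf₁ : Cfsg.Geo.IsSymplecticForm f₁) (hf₂ : Cfsg.Geo.IsSymplecticForm f₂)
    (hT : Cfsg.Geo.IsTensorFormStructure id (QuadraticMap.polar Q) f₁ f₂ e P)
    (hpure : ∀ (u : Fin a → F) (w : Fin b → F), Q (coord e P (CfsgLib.Maximal.TensorTools.pure u w)) = 0) :
    Cfsg.Geo.IsMaximalIn (Cfsg.Geo.omegaGL Q)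
      (Cfsg.Geo.tensorProductSubgroup a b e P ⊓ Cfsg.Geo.omegaGL Q) := by
  classical
  obtain ⟨c, hc, hform⟩ := tensor_form_pure hf₁.bilinear hf₂.bilinear hT
  set cd := coord e P with hcd
  let D : Data F a b :=
    { β := c • Symp.bil hf₁
      γ := Symp.bil hf₂
      q := (quadOf hQ).comp cd.toLinearMap
      βalt := fun x => by simp [hf₁.alternating]
      βnd := ⟨fun x hx => (Symp.bil_nondegenerate hf₁).1 x fun y => by simpa [hc] using hx y,
        fun x hx => (Symp.bil_nondegenerate hf₁).2 x fun y => by simpa [hc] using hx y⟩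
      γalt := form_bilinear hf₂
      γnd := Symp.bil_nondegenerate hf₂
      q_pl := fun u w => hpure u w
      polar_pl := fun u w u' w' => by
        show Q (cd (pl w u + pl w' u')) - Q (cd (pl w u)) - Q (cd (pl w' u')) = _
        rw [map_add]
        refine (hform u w u' w').trans ?_
        simp [mul_assoc] }
  let Φ : GL (Fin a × Fin b) F ≃* GL (Fin n) F := (Cfsg.Geo.glReindex e.symm).trans (MulAut.conj P)
  have hΦ : ∀ k x, (Φ k : Matrix (Fin n) (Fin n) F) *ᵥ cd x = cd ((k : M2 F a b) *ᵥ x) := fun k x =>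
    conj_reindex_mulVec e P k x
  have hH : Cfsg.Geo.tensorProductSubgroup a b e P =
      (Cfsg.Geo.kroneckerSubgroup a b F).map Φ.toMonoidHom := by
    rw [Cfsg.Geo.tensorProductSubgroup, Subgroup.map_map]
    rfl
  have hOΦ : ∀ k, k ∈ O D.q → Φ k ∈ O (quadOf hQ) := fun k hk v _ => by
    obtain ⟨x, rfl⟩ := cd.surjective v
    show Q ((Φ k : Matrix (Fin n) (Fin n) F) *ᵥ cd x) = Q (cd x)
    rw [hΦ]
    exact CfsgLib.Orth.Q_app (Q := D.q) ⟨k, hk⟩ x
  let θ : O D.q →* O (quadOf hQ) :=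
    { toFun := fun k => ⟨Φ k.1, hOΦ k.1 k.2⟩
      map_one' := Subtype.ext (map_one Φ)
      map_mul' := fun k l => Subtype.ext (map_mul Φ k.1 l.1) }
  have hθ : Function.Surjective θ := fun g => by
    refine ⟨⟨Φ.symm g.1, fun x _ => ?_⟩, Subtype.ext (Φ.apply_symm_apply g.1)⟩
    show Q (cd ((Φ.symm g.1 : M2 F a b) *ᵥ x)) = Q (cd x)
    rw [← hΦ, Φ.apply_symm_apply]
    exact CfsgLib.Orth.Q_app (Q := quadOf hQ) g (cd x)
  have hcomm : commutator (O (quadOf hQ)) = (commutator (O D.q)).map θ := by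
    rw [commutator_def, commutator_def, Subgroup.map_commutator, Subgroup.map_top_of_surjective θ hθ]
  have hΩ : Cfsg.Geo.omegaGL Q = D.omega.map Φ.toMonoidHom := by
    show (commutator (O (quadOf hQ))).map (O (quadOf hQ)).subtype = _
    rw [hcomm, Data.omega, Subgroup.map_map, Subgroup.map_map]
    rfl
  have hmax := D.maximal ha hab hb hex
  rw [hΩ, hH, ← Subgroup.map_inf _ _ _ Φ.injective]
  refine ⟨lt_of_le_of_ne (Subgroup.map_mono hmax.1.le) fun h => hmax.1.ne (Subgroup.map_injective Φ.injective h),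
    fun M h1 h2 => ?_⟩
  have h3 : M = (M.comap Φ.toMonoidHom).map Φ.toMonoidHom :=
    (Subgroup.map_comap_eq_self_of_surjective Φ.surjective M).symm
  rcases hmax.2 (M.comap Φ.toMonoidHom) (Subgroup.map_le_iff_le_comap.1 h1)
    (by rw [← Subgroup.map_le_map_iff_of_injective (f := Φ.toMonoidHom) Φ.injective, ← h3]; exact h2) with h' | h'
  · left; rw [h3, h']
  · right; rw [h3, h']

end Transport

end CfsgLib.TensorSympPair
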