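import Cfsg.Agent.Lib.TensorSympPair.Roots

/-!
Root elements on the pure tensors generate `Ω` when both factors have dimension at least four.
-/

set_option autoImplicit false
set_option linter.unusedSectionVars false
set_option linter.unusedSimpArgs false
set_option linter.style.haveILetI false

namespace CfsgLib.TensorSympPair

open Matrix Module QuadraticMap
open CfsgLib.GeomClasses CfsgLib.GeomClasses.TensorMax
open CfsgLib.Orth (O app eich app_eich)

variable {F : Type*} [Field F] {a b : ℕ}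

/-- A hyperbolic plane orthogonal to another one. -/
theorem exists_plane_of_pair {n : ℕ} (hn : 4 ≤ n) {B : LinearMap.BilinForm F (Fin n → F)} (hA : B.IsAlt)
    (hB : B.Nondegenerate) {x y : Fin n → F} (h : B x y ≠ 0) :
    ∃ w w', B x w = 0 ∧ B y w = 0 ∧ B x w' = 0 ∧ B y w' = 0 ∧ B w w' = 1 := by
  obtain ⟨w, hw, hw0⟩ := (Submodule.ne_bot_iff _).1 (LinearMap.ker_ne_bot_of_finrank_lt (f := (B x).prod (B y))
    (by rw [Module.finrank_prod, Module.finrank_self, Module.finrank_fintype_fun_eq_card, Fintype.card_fin]; omega))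
  have hxw : B x w = 0 := congrArg Prod.fst hw
  have hyw : B y w = 0 := congrArg Prod.snd hw
  obtain ⟨v, hv⟩ : ∃ v, B w v = 1 := by
    obtain ⟨v, hv⟩ : ∃ v, B w v ≠ 0 := by
      by_contra hcon
      push Not at hcon
      exact hw0 (hB.1 w hcon)
    exact ⟨(B w v)⁻¹ • v, by rw [map_smul, smul_eq_mul, inv_mul_cancel₀ hv]⟩
  have hyx : B y x = -B x y := CfsgLib.Sp.alt_flip hA x y
  have hwx : B w x = 0 := by rw [CfsgLib.Sp.alt_flip hA x w, hxw, neg_zero]
  have hwy : B w y = 0 := by rw [CfsgLib.Sp.alt_flip hA y w, hyw, neg_zero]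
  refine ⟨w, v - (B x v / B x y) • y - (B y v / B y x) • x, hxw, hyw, ?_, ?_, ?_⟩
  · simp only [map_sub, map_smul, smul_eq_mul, hA.self_eq_zero, mul_zero, sub_zero, div_mul_cancel₀ _ h, sub_self]
  · simp only [map_sub, map_smul, smul_eq_mul, hA.self_eq_zero, mul_zero, sub_zero,
      div_mul_cancel₀ _ (show B y x ≠ 0 by rw [hyx]; exact neg_ne_zero.2 h), sub_self]
  · simp [hwx, hwy, hv]

namespace Data

variable (D : Data F a b)

theorem exists_γ_dual {x y : Fin b → F} (h : ∀ c : F, y ≠ c • x) : ∃ v, D.γ v x = 0 ∧ D.γ v y = 1 := by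
  obtain ⟨θ, h1, h2⟩ := exists_perp_of_notMem h
  obtain ⟨v, rfl⟩ := D.exists_gv θ
  exact ⟨v, by rw [← gv_dot, h1], by rw [← gv_dot, h2]⟩

/-- Two hyperplanes are not orthogonal. -/
theorem exists_cross (hb : 3 ≤ b) (w w' : Fin b → F) :
    ∃ z z', D.γ w z = 0 ∧ D.γ w' z' = 0 ∧ D.γ z z' = 1 := by
  obtain ⟨z, hz, hzn⟩ := SetLike.not_le_iff_exists.1 (fun hle : LinearMap.ker (D.γ w) ≤ Submodule.span F {w'} => by
    have h1 := LinearMap.finrank_range_add_finrank_ker (D.γ w)
    have h2 := Submodule.finrank_le (LinearMap.range (D.γ w))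
    rw [Module.finrank_self] at h2
    rw [Module.finrank_fintype_fun_eq_card, Fintype.card_fin] at h1
    have h3 := Submodule.finrank_mono hle
    have h4 : finrank F (Submodule.span F ({w'} : Set (Fin b → F))) ≤ 1 := by
      classical
      have := finrank_span_finset_le_card (R := F) ({w'} : Finset (Fin b → F))
      rwa [Finset.coe_singleton, Finset.card_singleton] at this
    omega)
  obtain ⟨s, hs, hsz⟩ := D.exists_γ_dual (x := w') (y := z) fun c hc =>
    hzn (Submodule.mem_span_singleton.2 ⟨c, hc.symm⟩)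
  exact ⟨z, -s, LinearMap.mem_ker.1 hz, by rw [map_neg, D.γ_zero _ _ hs, neg_zero],
    by rw [map_neg, D.γ_flip s z, hsz, neg_neg]⟩

variable {M : Subgroup (O D.q)}

/-- Root elements on every orthogonal pair of lines generate `Ω`. -/
theorem commutator_le_of_roots [Fintype F] (ha : 4 ≤ a) (hb : 4 ≤ b)
    (hroot : ∀ (z w : Fin b → F) (u : Fin a → F), z ≠ 0 → (∀ c : F, w ≠ c • z) → D.γ z w = 0 →
      eich D.q (pl w u) (pl z u) ∈ M) : commutator (O D.q) ≤ M := by
  classical
  -- the additive group of the admissible second arguments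
  let Ψ : (Fin b → F) → (Fin a → F) → AddSubgroup (V2 F a b) := fun w u =>
    { carrier := {y | polar D.q (pl w u) y = 0 ∧ eich D.q (pl w u) y ∈ M}
      zero_mem' := ⟨polar_zero_right D.q _, by
        rw [← zero_smul F (pl w u), CfsgLib.Orth.eich_smul_self (D.q_pl u w)]; exact M.one_mem⟩
      add_mem' := fun {y y'} hy hy' => ⟨by rw [polar_add_right, hy.1, hy'.1, add_zero], by
        rw [← CfsgLib.Orth.eich_add (D.q_pl u w) hy.1 hy'.1]; exact M.mul_mem hy.2 hy'.2⟩
      neg_mem' := fun {y} hy => ⟨by rw [polar_neg_right, hy.1, neg_zero], by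
        have hqp := D.q_pl u w
        have h1 : polar D.q (pl w u) (-y) = 0 := by rw [polar_neg_right, hy.1, neg_zero]
        have h2 : eich D.q (pl w u) (-y) = (eich D.q (pl w u) y)⁻¹ := by
          rw [eq_inv_iff_mul_eq_one, CfsgLib.Orth.eich_add hqp h1 hy.1, neg_add_cancel, ← zero_smul F (pl w u),
            CfsgLib.Orth.eich_smul_self hqp]
        rw [h2]; exact M.inv_mem hy.2⟩ }
  -- both on a single line of the right factor
  have hline : ∀ w u v, w ≠ 0 → u ≠ 0 → pl w v ∈ Ψ w u := by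
    intro w u v hw hu
    obtain ⟨f, -, hf⟩ := D.exists_β_dual (x := 0) (y := u) (fun c hc => hu (by rw [hc, smul_zero]))
    have hfu : D.β u f ≠ 0 := by rw [D.β_flip f u, hf]; simp
    have h1 : ∀ v, D.β u v ≠ 0 → pl w v ∈ Ψ w u := fun v huv => by
      refine ⟨by rw [D.polar_pl, D.γ_self, mul_zero], ?_⟩
      obtain ⟨z, z₁, hwz, hwz₁, hzz₁⟩ := D.exists_cross (by omega) w w
      set z' := (D.β u v)⁻¹ • z₁ with hz'
      have hwz' : D.γ w z' = 0 := by rw [hz', map_smul, hwz₁, smul_zero]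
      have hzz' : D.γ z z' = (D.β u v)⁻¹ := by rw [hz', map_smul, hzz₁, smul_eq_mul, mul_one]
      have hk : (D.β u v)⁻¹ ≠ 0 := inv_ne_zero huv
      have hz0 : z ≠ 0 := fun h => hk (by rw [← hzz', h, map_zero]; rfl)
      have hind : ∀ c : F, w ≠ c • z := fun c hc => by
        have h1 : c * D.γ z z' = 0 := by
          rw [← smul_eq_mul, ← LinearMap.smul_apply, ← map_smul, ← hc, hwz']
        rw [hzz'] at h1
        exact hw (by rw [hc, (mul_eq_zero.1 h1).resolve_right hk, zero_smul])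
      have hind' : ∀ c : F, z' ≠ c • w := fun c hc => by
        have h1 := hzz'
        rw [hc, map_smul, D.γ_zero _ _ hwz, smul_zero] at h1
        exact hk h1.symm
      refine eich_step (r := pl z u) (s := pl z' v) (D.q_pl u w) (D.q_pl u z) (D.q_pl v z') (D.q_pl v w)
        ?_ ?_ ?_ ?_ ?_ ?_ (hroot z w u hz0 hind (D.γ_zero _ _ hwz)) (hroot w z' v hw hind' hwz')
      all_goals rw [D.polar_pl]
      · rw [D.β_self, zero_mul]
      · rw [D.β_self, zero_mul]
      · rw [hwz', mul_zero]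
      · rw [D.γ_self, mul_zero]
      · rw [D.γ_zero _ _ hwz, mul_zero]
      · rw [hzz', mul_inv_cancel₀ huv]
    by_cases hv : D.β u v = 0
    · have := (Ψ w u).sub_mem (h1 (v + f) (by rw [map_add, hv, zero_add]; exact hfu)) (h1 f hfu)
      rwa [map_add, add_sub_cancel_right] at this
    · exact h1 v hv
  -- both orthogonal
  have horth : ∀ w u w' v, w ≠ 0 → u ≠ 0 → D.γ w w' = 0 → D.β u v = 0 → pl w' v ∈ Ψ w u := by
    intro w u w' v hw hu hww huv
    refine ⟨by rw [D.polar_pl, hww, mul_zero], ?_⟩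
    by_cases hw' : ∃ c : F, w' = c • w
    · obtain ⟨c, rfl⟩ := hw'
      rw [pl_smul_left, ← map_smul]
      exact (hline w u (c • v) hw hu).2
    push Not at hw'
    have hw'0 : w' ≠ 0 := fun h => hw' 0 (by rw [h, zero_smul])
    rcases eq_or_ne v 0 with rfl | hv0
    · rw [map_zero, ← zero_smul F (pl w u), CfsgLib.Orth.eich_smul_self (D.q_pl u w)]; exact M.one_mem
    by_cases hv : ∃ c : F, v = c • u
    · obtain ⟨c, rfl⟩ := hv
      have hc : c ≠ 0 := fun h => hv0 (by rw [h, zero_smul])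
      rw [map_smul, ← pl_smul_left]
      refine hroot (c • w') w u (smul_ne_zero hc hw'0) (fun d hd => ?_) ?_
      · by_cases hd0 : d = 0
        · exact hw (by rw [hd, hd0, zero_smul])
        · exact hw' (c⁻¹ * d⁻¹) (by rw [hd, smul_smul, smul_smul]; field_simp; rw [one_smul])
      · rw [map_smul, LinearMap.smul_apply, D.γ_zero _ _ hww, smul_zero]
    push Not at hv
    obtain ⟨u₂, hvu₂, hu₂⟩ := D.exists_β_dual (x := v) (y := u) (indep_symm hu hv |> fun h => h)
    have huu₂ : D.β u u₂ = -1 := by rw [D.β_flip u₂ u, hu₂]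
    obtain ⟨s, hs, hs'⟩ := D.exists_γ_dual hw'
    have hsw : D.γ w (-s) = 0 := by rw [map_neg, D.γ_zero _ _ hs, neg_zero]
    have hs0 : -s ≠ 0 := fun h => by
      rw [neg_eq_zero.1 h, map_zero, LinearMap.zero_apply] at hs'
      exact zero_ne_one hs'
    have hind : ∀ c : F, w ≠ c • -s := fun c hc => by
      rw [hc, map_smul, LinearMap.smul_apply, map_neg, LinearMap.neg_apply, hs', smul_eq_mul, mul_neg, mul_one,
        neg_eq_zero] at hww
      exact hw (by rw [hc, hww, zero_smul])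
    refine eich_step (r := pl (-s) u) (s := pl w' u₂) (t := pl w' v) (D.q_pl u w) (D.q_pl u (-s)) (D.q_pl u₂ w')
      (D.q_pl v w') ?_ ?_ ?_ ?_ ?_ ?_ (hroot (-s) w u hs0 hind (D.γ_zero _ _ hsw))
      (hline w' u₂ v hw'0 (fun h => by rw [h, map_zero] at huu₂; exact neg_ne_zero.2 one_ne_zero huu₂.symm)).2
    all_goals rw [D.polar_pl]
    · rw [D.β_self, zero_mul]
    · rw [D.γ_self, mul_zero]
    · rw [hww, mul_zero]
    · rw [hww, mul_zero]
    · rw [huv, zero_mul]
    · rw [huu₂, map_neg, LinearMap.neg_apply, hs']; ring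
  -- right factors orthogonal
  have hb' : ∀ w u w' v, w ≠ 0 → u ≠ 0 → D.γ w w' = 0 → pl w' v ∈ Ψ w u := by
    intro w u w' v hw hu hww
    by_cases huv : D.β u v = 0
    · exact horth w u w' v hw hu hww huv
    refine ⟨by rw [D.polar_pl, hww, mul_zero], ?_⟩
    obtain ⟨u₁, v', huu₁, hvu₁, huv', hvv', hu₁v'⟩ := exists_plane_of_pair ha D.βalt D.βnd huv
    obtain ⟨z, z', hwz, hw'z', hzz'⟩ := D.exists_cross (by omega) w w'
    have hz'0 : z' ≠ 0 := fun h => by rw [h, map_zero] at hzz'; exact zero_ne_one hzz'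
    have hv'0 : v' ≠ 0 := fun h => by rw [h, map_zero] at hu₁v'; exact zero_ne_one hu₁v'
    refine eich_step (r := pl z u₁) (s := pl z' v') (t := pl w' v) (D.q_pl u w) (D.q_pl u₁ z) (D.q_pl v' z')
      (D.q_pl v w') ?_ ?_ ?_ ?_ ?_ ?_ (horth w u z u₁ hw hu hwz huu₁).2
      (horth z' v' w' v hz'0 hv'0 (D.γ_zero _ _ hw'z') (D.β_zero _ _ hvv')).2
    all_goals rw [D.polar_pl]
    · rw [huu₁, zero_mul]
    · rw [D.β_zero _ _ hvv', zero_mul]
    · rw [huv', zero_mul]
    · rw [hww, mul_zero]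
    · rw [D.β_zero _ _ hvu₁, zero_mul]
    · rw [hu₁v', hzz', mul_one]
  -- every pure tensor is a full centre
  have hfull : ∀ w₀ u₀, w₀ ≠ 0 → u₀ ≠ 0 → OrthEich.Full M (pl w₀ u₀) := by
    intro w₀ u₀ hw₀ hu₀
    set p := pl w₀ u₀ with hp
    have hqp : D.q p = 0 := D.q_pl u₀ w₀
    refine ⟨hqp, fun x hx => ?_⟩
    suffices hxΨ : x ∈ Ψ w₀ u₀ from hxΨ.2
    obtain ⟨x₀, hx₀⟩ := D.exists_pair_one hw₀
    have hx₀0 : x₀ ≠ 0 := fun h => by rw [h, map_zero] at hx₀; exact zero_ne_one hx₀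
    -- one vector not orthogonal to `w₀`
    have hc : ∀ u', D.β u₀ u' = 0 → pl x₀ u' ∈ Ψ w₀ u₀ := by
      intro u' hu'
      rcases eq_or_ne u' 0 with rfl | hu'0
      · rw [map_zero]; exact (Ψ w₀ u₀).zero_mem
      refine ⟨by rw [D.polar_pl, hu', zero_mul], ?_⟩
      obtain ⟨v, hv₀, hv⟩ := D.exists_β_dual (x := 0) (y := u₀) (fun c hc => hu₀ (by rw [hc, smul_zero]))
      have hu₀v : D.β u₀ v = -1 := by rw [D.β_flip v u₀, hv]
      have hvu' : ∀ c : F, u' ≠ c • v := fun c hc => by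
        have h1 := hu'
        rw [hc, map_smul, hu₀v, smul_eq_mul, mul_neg, mul_one, neg_eq_zero] at h1
        exact hu'0 (by rw [hc, h1, zero_smul])
      have hv0 : v ≠ 0 := fun h => by rw [h, map_zero] at hv; exact zero_ne_one hv
      obtain ⟨u₁, h11, h12⟩ := D.exists_β_dual hvu'
      obtain ⟨u₂, h21, h22⟩ := D.exists_β_dual (indep_symm hv0 hvu')
      set u'' := u₁ + u₂ with hu''
      have hu''u' : D.β u'' u' = 1 := by rw [hu'', map_add, LinearMap.add_apply, h12, h21, add_zero]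
      have hu''0 : u'' ≠ 0 := fun h => by
        rw [h, map_zero, LinearMap.zero_apply] at hu''u'
        exact zero_ne_one hu''u'
      have hvu'' : D.β v u'' = -1 := by
        rw [D.β_flip u'' v, hu'', map_add, LinearMap.add_apply, h11, h22, zero_add]
      obtain ⟨w', y, hw₀w', hx₀w', hw₀y, hx₀y, hw'y⟩ :=
        exists_plane_of_pair hb D.γalt D.γnd (x := w₀) (y := x₀) (by rw [hx₀]; exact one_ne_zero)
      have hy0 : y ≠ 0 := fun h => by rw [h, map_zero] at hw'y; exact zero_ne_one hw'y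
      have hyx : D.γ (-y) x₀ = 0 := by rw [map_neg, LinearMap.neg_apply, D.γ_zero _ _ hx₀y, neg_zero]
      refine eich_step (r := pl w' v) (s := pl (-y) u'') (t := pl x₀ u') hqp (D.q_pl v w') (D.q_pl _ _)
        (D.q_pl u' x₀) ?_ ?_ ?_ ?_ ?_ ?_ (hb' w₀ u₀ w' v hw₀ hu₀ hw₀w').2
        (hb' (-y) u'' x₀ u' (neg_ne_zero.2 hy0) hu''0 hyx).2
      all_goals simp only [hp, D.polar_pl]
      · rw [hw₀w', mul_zero]
      · rw [hyx, mul_zero]
      · rw [map_neg, hw₀y, neg_zero, mul_zero]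
      · rw [hu', zero_mul]
      · rw [D.γ_zero _ _ hx₀w', mul_zero]
      · rw [hvu'', map_neg, hw'y, neg_mul_neg, one_mul]
    set k := D.cw w₀ x with hk
    have hβk : D.β u₀ k = 0 := by rw [hk, ← D.polar_pl_right, polar_comm]; exact hx
    set x' := x - pl x₀ k with hx'
    have hcx' : D.cw w₀ x' = 0 := by rw [hx', map_sub, D.cw_pl, hx₀, one_smul, sub_self]
    have hx'Ψ : x' ∈ Ψ w₀ u₀ := by
      have hdec : x' = ∑ j, pl (Pi.single j 1 - D.γ w₀ (Pi.single j 1) • x₀) (C (Pi.single j 1) x') := by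
        have hsum : ∑ j, D.γ w₀ (Pi.single j 1) • C (Pi.single j 1) x' = 0 := by
          have h1 := congrArg (D.cw w₀) (eq_sum x')
          rw [hcx', map_sum] at h1
          simp only [D.cw_pl] at h1
          exact h1.symm
        calc x' = ∑ j, pl (Pi.single j 1) (C (Pi.single j 1) x') := eq_sum x'
          _ = _ := by
            simp only [pl_sub_left, pl_smul_left, Finset.sum_sub_distrib, ← map_smul (pl x₀), ← map_sum (pl x₀),
              hsum, map_zero, sub_zero]
      rw [hdec]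
      exact (Ψ w₀ u₀).sum_mem fun j _ => hb' w₀ u₀ _ _ hw₀ hu₀
        (by rw [map_sub, map_smul, hx₀, smul_eq_mul, mul_one, sub_self])
    have := (Ψ w₀ u₀).add_mem hx'Ψ (hc k hβk)
    rwa [hx', sub_add_cancel] at this
  have hn : 7 ≤ Fintype.card (Fin a × Fin b) := by
    rw [Fintype.card_prod, Fintype.card_fin, Fintype.card_fin]
    have := Nat.mul_le_mul ha hb
    omega
  have hq : D.q.polarBilin.Nondegenerate := by
    refine ⟨fun x hx => D.eq_zero_of_polar fun u w => hx (pl w u), fun x hx => D.eq_zero_of_polar fun u w => ?_⟩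
    rw [polar_comm]
    exact hx (pl w u)
  obtain ⟨w₀, hw₀⟩ : ∃ w : Fin b → F, w ≠ 0 := ⟨Pi.single ⟨0, by omega⟩ 1, by simp⟩
  obtain ⟨u₀, hu₀⟩ : ∃ u : Fin a → F, u ≠ 0 := ⟨Pi.single ⟨0, by omega⟩ 1, by simp⟩
  obtain ⟨x₀, hx₀⟩ := D.exists_pair_one hw₀
  obtain ⟨f, hf₀, hf⟩ := D.exists_β_dual (x := 0) (y := u₀) (fun c hc => hu₀ (by rw [hc, smul_zero]))
  refine OrthEich.commutator_le_of_pair hq hn (hfull w₀ u₀ hw₀ hu₀)
    (hfull x₀ f (fun h => by rw [h, map_zero] at hx₀; exact zero_ne_one hx₀)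
      (fun h => by rw [h, map_zero] at hf; exact zero_ne_one hf)) ?_
  rw [D.polar_pl, hf, D.γ_flip w₀ x₀, hx₀]
  simp

end Data

end CfsgLib.TensorSympPair
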