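import Cfsg.Agent.Lib.GeomClasses.TensorMaximal
import Cfsg.Agent.Lib.Sp.Witt

/-!
A quadratic form on `F^a ⊗ F^b` polarising to the tensor product of two symplectic forms and vanishing
on pure tensors; contractions with vectors of the right factor, and the unipotent elements attached to
orthogonal pairs of vectors of the right factor.
-/

set_option autoImplicit false
set_option linter.unusedSectionVars false
set_option linter.unusedSimpArgs false
set_option linter.style.haveILetI false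

namespace CfsgLib.TensorSympPair

open Matrix Module QuadraticMap
open CfsgLib.GeomClasses CfsgLib.GeomClasses.TensorMax
open LinearMap (BilinForm)

variable {F : Type*} [Field F] {a b : ℕ}

attribute [-simp] Matrix.coe_units_inv

theorem pl_add_left (z z' : Fin b → F) (u : Fin a → F) : pl (z + z') u = pl z u + pl z' u := by
  ext; simp [pl]; ring

theorem pl_smul_left (c : F) (z : Fin b → F) (u : Fin a → F) : pl (c • z) u = c • pl z u := by
  ext; simp [pl]; ring

theorem pl_zero_left (u : Fin a → F) : pl (0 : Fin b → F) u = 0 := by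
  ext; simp [pl]

theorem pl_neg_left (z : Fin b → F) (u : Fin a → F) : pl (-z) u = -pl z u := by
  ext; simp [pl]

theorem pl_sub_left (z z' : Fin b → F) (u : Fin a → F) : pl (z - z') u = pl z u - pl z' u := by
  ext; simp [pl]; ring

/-- The two factor forms and the quadratic form. -/
structure Data (F : Type*) [Field F] (a b : ℕ) where
  β : BilinForm F (Fin a → F)
  γ : BilinForm F (Fin b → F)
  q : QuadraticForm F (V2 F a b)
  βalt : β.IsAlt
  βnd : β.Nondegenerate
  γalt : γ.IsAlt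
  γnd : γ.Nondegenerate
  q_pl : ∀ u w, q (pl w u) = 0
  polar_pl : ∀ u w u' w', polar q (pl w u) (pl w' u') = β u u' * γ w w'

namespace Data

variable (D : Data F a b)

theorem β_flip (u v : Fin a → F) : D.β v u = -D.β u v := CfsgLib.Sp.alt_flip D.βalt u v

theorem γ_flip (u v : Fin b → F) : D.γ v u = -D.γ u v := CfsgLib.Sp.alt_flip D.γalt u v

theorem β_self (u : Fin a → F) : D.β u u = 0 := D.βalt.self_eq_zero u

theorem γ_self (u : Fin b → F) : D.γ u u = 0 := D.γalt.self_eq_zero u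

theorem β_zero (u v : Fin a → F) (h : D.β u v = 0) : D.β v u = 0 := by rw [β_flip, h, neg_zero]

theorem γ_zero (u v : Fin b → F) (h : D.γ u v = 0) : D.γ v u = 0 := by rw [γ_flip, h, neg_zero]

/-- The functional `γ s`, as a vector. -/
def gv (s : Fin b → F) : Fin b → F := fun i => D.γ s (Pi.single i 1)

/-- The functional `β u`, as a vector. -/
def bv (u : Fin a → F) : Fin a → F := fun i => D.β u (Pi.single i 1)

theorem gv_dot (s w : Fin b → F) : D.gv s ⬝ᵥ w = D.γ s w := by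
  conv_rhs => rw [pi_eq_sum_univ' w, map_sum]
  simp only [map_smul, smul_eq_mul, dotProduct, gv]
  exact Finset.sum_congr rfl fun i _ => mul_comm _ _

theorem bv_dot (u v : Fin a → F) : D.bv u ⬝ᵥ v = D.β u v := by
  conv_rhs => rw [pi_eq_sum_univ' v, map_sum]
  simp only [map_smul, smul_eq_mul, dotProduct, bv]
  exact Finset.sum_congr rfl fun i _ => mul_comm _ _

theorem gv_add (s t : Fin b → F) : D.gv (s + t) = D.gv s + D.gv t := by
  funext i; simp [gv]

theorem gv_smul (c : F) (s : Fin b → F) : D.gv (c • s) = c • D.gv s := by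
  funext i; simp [gv]

theorem exists_gv (φ : Fin b → F) : ∃ s, D.gv s = φ := by
  let L : (Fin b → F) →ₗ[F] (Fin b → F) :=
    { toFun := D.gv, map_add' := D.gv_add, map_smul' := D.gv_smul }
  have hi : Function.Injective L := by
    rw [← LinearMap.ker_eq_bot, Submodule.eq_bot_iff]
    intro s hs
    refine D.γnd.1 s fun w => ?_
    rw [← D.gv_dot, show D.gv s = L s from rfl, LinearMap.mem_ker.1 hs, zero_dotProduct]
  obtain ⟨s, hs⟩ := LinearMap.injective_iff_surjective.1 hi φ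
  exact ⟨s, hs⟩

/-- Contraction with `γ s`. -/
def cw (s : Fin b → F) : V2 F a b →ₗ[F] (Fin a → F) := C (D.gv s)

theorem cw_pl (s w : Fin b → F) (u : Fin a → F) : D.cw s (pl w u) = D.γ s w • u := by
  rw [cw, C_pl, gv_dot]

theorem C_gv (s : Fin b → F) (x : V2 F a b) : C (D.gv s) x = D.cw s x := rfl

theorem cw_add (s t : Fin b → F) (x : V2 F a b) : D.cw (s + t) x = D.cw s x + D.cw t x := by
  rw [cw, gv_add, C_add]; rfl

theorem cw_smul (c : F) (s : Fin b → F) (x : V2 F a b) : D.cw (c • s) x = c • D.cw s x := by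
  rw [cw, gv_smul, C_smul]; rfl

theorem eq_zero_of_cw {x : V2 F a b} (h : ∀ s, D.cw s x = 0) : x = 0 :=
  eq_zero_of_C fun φ => by
    obtain ⟨s, rfl⟩ := D.exists_gv φ
    exact h s

theorem polar_pl_right (x : V2 F a b) (u : Fin a → F) (w : Fin b → F) :
    polar D.q x (pl w u) = D.β u (D.cw w x) := by
  have h : (D.q.polarBilin.flip (pl w u)) = (D.β u) ∘ₗ D.cw w := ext_pl fun u' w' => by
    simp only [LinearMap.flip_apply, QuadraticMap.polarBilin_apply_apply, LinearMap.comp_apply,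
      polar_pl, cw_pl, map_smul, smul_eq_mul]
    rw [D.β_flip u u', D.γ_flip w w']
    ring
  exact LinearMap.congr_fun h x

theorem polar_pl_left (x : V2 F a b) (u : Fin a → F) (w : Fin b → F) :
    polar D.q (pl w u) x = D.β u (D.cw w x) := by
  rw [polar_comm, polar_pl_right]

theorem eq_zero_of_polar {x : V2 F a b} (h : ∀ u w, polar D.q x (pl w u) = 0) : x = 0 :=
  D.eq_zero_of_cw fun s => D.βnd.2 _ fun u => by rw [← D.polar_pl_right]; exact h u s

/-- The adjoint for `β`. -/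
noncomputable def adj (P : (Fin a → F) →ₗ[F] (Fin a → F)) : (Fin a → F) →ₗ[F] (Fin a → F) :=
  D.β.leftAdjointOfNondegenerate D.βnd P

theorem adj_left (P : (Fin a → F) →ₗ[F] (Fin a → F)) (u v : Fin a → F) :
    D.β (D.adj P u) v = D.β u (P v) :=
  LinearMap.BilinForm.isAdjointPairLeftAdjointOfNondegenerate D.β D.βnd P u v

theorem adj_right (P : (Fin a → F) →ₗ[F] (Fin a → F)) (u v : Fin a → F) :
    D.β u (D.adj P v) = D.β (P u) v := by
  rw [D.β_flip (D.adj P v) u, adj_left, ← D.β_flip]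

theorem eq_of_β {x y : Fin a → F} (h : ∀ u, D.β u x = D.β u y) : x = y :=
  sub_eq_zero.1 (D.βnd.2 _ fun u => by rw [map_sub, h, sub_self])

theorem adj_eq {P R : (Fin a → F) →ₗ[F] (Fin a → F)} (h : ∀ u v, D.β (P u) v = D.β u (R v)) :
    D.adj P = R :=
  LinearMap.ext fun v => D.eq_of_β fun u => by rw [adj_right, h]

theorem adj_id : D.adj LinearMap.id = LinearMap.id := D.adj_eq fun _ _ => rfl

theorem adj_add (P R : (Fin a → F) →ₗ[F] (Fin a → F)) : D.adj (P + R) = D.adj P + D.adj R :=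
  D.adj_eq fun u v => by simp [adj_right]

theorem adj_smul (c : F) (P : (Fin a → F) →ₗ[F] (Fin a → F)) : D.adj (c • P) = c • D.adj P :=
  D.adj_eq fun u v => by simp [adj_right]

theorem adj_neg (P : (Fin a → F) →ₗ[F] (Fin a → F)) : D.adj (-P) = -D.adj P :=
  D.adj_eq fun u v => by simp [adj_right]

theorem adj_adj (P : (Fin a → F) →ₗ[F] (Fin a → F)) : D.adj (D.adj P) = P :=
  D.adj_eq fun u v => D.adj_left P u v

/-! ### Elements -/

/-- `x ↦ (P (γ w x)) ⊗ z + (P† (γ z x)) ⊗ w`. -/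
noncomputable def e0 (z w : Fin b → F) (P : (Fin a → F) →ₗ[F] (Fin a → F)) : V2 F a b →ₗ[F] V2 F a b :=
  pl z ∘ₗ P ∘ₗ D.cw w + pl w ∘ₗ D.adj P ∘ₗ D.cw z

/-- `x ↦ (Z (γ z x)) ⊗ z`. -/
def cz (z : Fin b → F) (Z : (Fin a → F) →ₗ[F] (Fin a → F)) : V2 F a b →ₗ[F] V2 F a b :=
  pl z ∘ₗ Z ∘ₗ D.cw z

theorem e0_apply (z w : Fin b → F) (P : (Fin a → F) →ₗ[F] (Fin a → F)) (x : V2 F a b) :
    D.e0 z w P x = pl z (P (D.cw w x)) + pl w (D.adj P (D.cw z x)) := rfl

theorem cz_apply (z : Fin b → F) (Z : (Fin a → F) →ₗ[F] (Fin a → F)) (x : V2 F a b) :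
    D.cz z Z x = pl z (Z (D.cw z x)) := rfl

theorem e0_add (z w : Fin b → F) (P R : (Fin a → F) →ₗ[F] (Fin a → F)) :
    D.e0 z w (P + R) = D.e0 z w P + D.e0 z w R :=
  LinearMap.ext fun x => by simp [e0_apply, adj_add]; abel

theorem e0_neg (z w : Fin b → F) (P : (Fin a → F) →ₗ[F] (Fin a → F)) : D.e0 z w (-P) = -D.e0 z w P :=
  LinearMap.ext fun x => by simp [e0_apply, adj_neg]; abel

theorem e0_zero (z w : Fin b → F) : D.e0 z w 0 = 0 := by
  have := D.e0_add z w 0 0
  rwa [add_zero, eq_comm, add_eq_left] at this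

theorem e0_swap (z w : Fin b → F) (P : (Fin a → F) →ₗ[F] (Fin a → F)) :
    D.e0 w z (D.adj P) = D.e0 z w P :=
  LinearMap.ext fun x => by simp [e0_apply, adj_adj]; abel

theorem e0_smul_right (c : F) (z w : Fin b → F) (P : (Fin a → F) →ₗ[F] (Fin a → F)) :
    D.e0 z (c • w) P = D.e0 z w (c • P) :=
  LinearMap.ext fun x => by simp [e0_apply, adj_smul, cw_smul, pl_smul_left]

theorem e0_add_right (z w w' : Fin b → F) (P : (Fin a → F) →ₗ[F] (Fin a → F)) :
    D.e0 z (w + w') P = D.e0 z w P + D.e0 z w' P :=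
  LinearMap.ext fun x => by simp [e0_apply, cw_add, pl_add_left]; abel

theorem e0_mul {z w w' : Fin b → F} (hzw : D.γ z w = 0) (hzw' : D.γ z w' = 0) (hww : D.γ w w' = 0)
    (P R : (Fin a → F) →ₗ[F] (Fin a → F)) (x : V2 F a b) : D.e0 z w P (D.e0 z w' R x) = 0 := by
  simp [e0_apply, cw_pl, D.γ_self, hzw', hww, D.γ_zero _ _ hzw]

theorem e0_sq {z w : Fin b → F} (hzw : D.γ z w = 0) (P : (Fin a → F) →ₗ[F] (Fin a → F)) (x : V2 F a b) :
    D.e0 z w P (D.e0 z w P x) = 0 :=
  D.e0_mul hzw hzw (D.γ_self w) P P x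

theorem cz_sq (z : Fin b → F) (Z : (Fin a → F) →ₗ[F] (Fin a → F)) (x : V2 F a b) :
    D.cz z Z (D.cz z Z x) = 0 := by
  simp [cz_apply, cw_pl, D.γ_self]

theorem cz_e0 {z w : Fin b → F} (hzw : D.γ z w = 0) (Z P : (Fin a → F) →ₗ[F] (Fin a → F)) (x : V2 F a b) :
    D.cz z Z (D.e0 z w P x) = 0 := by
  simp [cz_apply, e0_apply, cw_pl, D.γ_self, hzw]

theorem e0_cz {z w : Fin b → F} (hzw : D.γ z w = 0) (Z P : (Fin a → F) →ₗ[F] (Fin a → F)) (x : V2 F a b) :
    D.e0 z w P (D.cz z Z x) = 0 := by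
  simp [cz_apply, e0_apply, cw_pl, D.γ_self, D.γ_zero _ _ hzw]

end Data

/-- Products of commuting square-zero elements. -/
theorem el_mul_el {η η' : V2 F a b →ₗ[F] V2 F a b} (h : ∀ x, η (η x) = 0) (h' : ∀ x, η' (η' x) = 0)
    (h₁ : ∀ x, η (η' x) = 0) (h₂ : ∀ x, η' (η x) = 0) :
    el η * el η' = el (η + η') := by
  have hs : ∀ x, (η + η') ((η + η') x) = 0 := fun x => by simp [h, h', h₁, h₂]
  refine gl_ext fun x => ?_
  rw [gl_mul_mulVec, el_mulVec h', el_mulVec h, el_mulVec hs, map_add, h₁, LinearMap.add_apply]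
  abel

theorem el_zero : el (0 : V2 F a b →ₗ[F] V2 F a b) = 1 :=
  gl_ext fun x => by rw [el_mulVec (fun _ => rfl)]; simp

theorem el_neg {η : V2 F a b →ₗ[F] V2 F a b} (h : ∀ x, η (η x) = 0) : el (-η) = (el η)⁻¹ := by
  rw [eq_comm, inv_eq_iff_mul_eq_one, el_mul_el h (fun x => by simp [h]) (fun x => by simp [h])
    (fun x => by simp [h]), add_neg_cancel, el_zero]

/-- An overgroup of the stabiliser inside the isometries. -/
structure Over (D : Data F a b) (H : Subgroup (GL (Fin a × Fin b) F)) : Prop where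
  two_le : 2 ≤ a
  lt : a + 2 ≤ b
  five_le : 5 ≤ b
  iso : ∀ g ∈ H, ∀ x, D.q ((g : M2 F a b) *ᵥ x) = D.q x
  rightT : ∀ (s : Fin b → F) (c : F),
    el (ten LinearMap.id (c • D.gv s) s : V2 F a b →ₗ[F] V2 F a b) ∈ H
  leftT : ∀ (u : Fin a → F) (c : F), el (tu (D.bv u) (c • u) : V2 F a b →ₗ[F] V2 F a b) ∈ H

variable {D : Data F a b} {H : Subgroup (GL (Fin a × Fin b) F)}

namespace Over

variable (S : Over D H)
include S

theorem polar_g {g : GL (Fin a × Fin b) F} (hg : g ∈ H) (x y : V2 F a b) :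
    polar D.q ((g : M2 F a b) *ᵥ x) ((g : M2 F a b) *ᵥ y) = polar D.q x y := by
  simp only [QuadraticMap.polar, ← mulVec_add, S.iso g hg]

/-- How an element that respects a line moves the contraction with it. -/
theorem cw_move {g : GL (Fin a × Fin b) F} (hg : g ∈ H) {z z' : Fin b → F}
    {E : (Fin a → F) →ₗ[F] (Fin a → F)} (h : ∀ u, (g : M2 F a b) *ᵥ pl z u = pl z' (E u))
    (x : V2 F a b) (u : Fin a → F) : D.β (E u) (D.cw z' ((g : M2 F a b) *ᵥ x)) = D.β u (D.cw z x) := by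
  rw [← D.polar_pl_right, ← D.polar_pl_right, ← h, S.polar_g hg]

theorem cross_mem {z w : Fin b → F} (hzw : D.γ z w = 0) (c : F) :
    el (D.e0 z w (c • LinearMap.id)) ∈ H := by
  have h1 : ∀ s : Fin b → F, (c • D.gv s) ⬝ᵥ s = 0 := fun s => by
    rw [smul_dotProduct, D.gv_dot, D.γ_self, smul_zero]
  have e : el (ten LinearMap.id (c • D.gv z) z : V2 F a b →ₗ[F] V2 F a b) *
      (el (ten LinearMap.id (c • D.gv w) w) * el (D.e0 z w (c • LinearMap.id))) =
      el (ten LinearMap.id (c • D.gv (z + w)) (z + w)) := gl_ext fun x => by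
    simp only [gl_mul_mulVec, el_mulVec (ten_sq _ (h1 _)), el_mulVec (D.e0_sq hzw _), ten_apply,
      LinearMap.id_apply, C_smul, D.e0_apply, D.adj_smul, D.adj_id, LinearMap.smul_apply, map_add, map_smul,
      D.C_gv, D.cw_pl, D.γ_self, hzw, D.γ_zero _ _ hzw, zero_smul, smul_zero, add_zero, D.cw_add,
      smul_add, pl_add_left, map_zero]
    module
  have h2 := (H.mul_mem_cancel_left (S.rightT z c)).1 (e.symm ▸ S.rightT (z + w) c)
  exact (H.mul_mem_cancel_left (S.rightT w c)).1 h2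

theorem exists_right {g : (Fin b → F) ≃ₗ[F] (Fin b → F)} (hg : g ∈ CfsgLib.Sp.isom D.γ) :
    ∃ k ∈ H, ∀ u w, (k : M2 F a b) *ᵥ pl w u = pl (g w) u := by
  rw [CfsgLib.Sp.isom_eq_transvGroup D.γalt D.γnd.1] at hg
  induction hg using Subgroup.closure_induction with
  | mem x hx =>
    obtain ⟨v, c, rfl⟩ := hx
    refine ⟨_, S.rightT v (-c), fun u w => ?_⟩
    rw [el_mulVec (ten_sq _ (by rw [smul_dotProduct, D.gv_dot, D.γ_self, smul_zero])), ten_apply,
      LinearMap.id_apply, C_pl, smul_dotProduct, D.gv_dot, D.γ_flip w v]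
    show pl w u + _ = pl (w + (c * D.γ w v) • v) u
    rw [pl_add_left, pl_smul_left, map_smul, smul_eq_mul, neg_mul_neg]
  | one => exact ⟨1, H.one_mem, fun u w => by simp⟩
  | mul x y _ _ hx hy =>
    obtain ⟨k, hk, hk'⟩ := hx
    obtain ⟨l, hl, hl'⟩ := hy
    exact ⟨k * l, H.mul_mem hk hl, fun u w => by rw [gl_mul_mulVec, hl', hk']; rfl⟩
  | inv x _ hx =>
    obtain ⟨k, hk, hk'⟩ := hx
    refine ⟨k⁻¹, H.inv_mem hk, fun u w => gl_mulVec_injective k ?_⟩
    simp only [gl_mulVec_inv_mulVec, hk']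
    rw [show x (x⁻¹ w) = w from x.apply_symm_apply w]

theorem exists_left {g : (Fin a → F) ≃ₗ[F] (Fin a → F)} (hg : g ∈ CfsgLib.Sp.isom D.β) :
    ∃ k ∈ H, ∀ u w, (k : M2 F a b) *ᵥ pl w u = pl w (g u) := by
  rw [CfsgLib.Sp.isom_eq_transvGroup D.βalt D.βnd.1] at hg
  induction hg using Subgroup.closure_induction with
  | mem x hx =>
    obtain ⟨v, c, rfl⟩ := hx
    refine ⟨_, S.leftT v (-c), fun u w => ?_⟩
    rw [el_mulVec (tu_sq (by rw [dotProduct_smul, D.bv_dot, D.β_self, smul_zero])), tu_apply, D_pl,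
      D.bv_dot, pr_eq, D.β_flip u v]
    show pl w u + _ = pl w (u + (c * D.β u v) • v)
    rw [map_add, map_smul, pl_smul_left, map_smul, smul_smul]
    congr 1
    ring_nf
  | one => exact ⟨1, H.one_mem, fun u w => by simp⟩
  | mul x y _ _ hx hy =>
    obtain ⟨k, hk, hk'⟩ := hx
    obtain ⟨l, hl, hl'⟩ := hy
    exact ⟨k * l, H.mul_mem hk hl, fun u w => by rw [gl_mul_mulVec, hl', hk']; rfl⟩
  | inv x _ hx =>
    obtain ⟨k, hk, hk'⟩ := hx
    refine ⟨k⁻¹, H.inv_mem hk, fun u w => gl_mulVec_injective k ?_⟩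
    simp only [gl_mulVec_inv_mulVec, hk']
    rw [show x (x⁻¹ u) = u from x.apply_symm_apply u]

end Over

/-- Conjugating a pair element by an element respecting the two lines. -/
theorem conj_e0 (D : Data F a b) {g : GL (Fin a × Fin b) F} {z w z' w' : Fin b → F}
    {E P R : (Fin a → F) →ₗ[F] (Fin a → F)}
    (hz : ∀ u, (g : M2 F a b) *ᵥ pl z u = pl z' (E u)) (hw : ∀ u, (g : M2 F a b) *ᵥ pl w u = pl w' (E u))
    (hcz : ∀ x, D.cw z' ((g : M2 F a b) *ᵥ x) = E (D.cw z x))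
    (hcw : ∀ x, D.cw w' ((g : M2 F a b) *ᵥ x) = E (D.cw w x))
    (hR : ∀ u, R (E u) = E (P u)) (hR' : ∀ u, D.adj R (E u) = E (D.adj P u))
    (hzw : D.γ z w = 0) (hzw' : D.γ z' w' = 0) :
    g * el (D.e0 z w P) = el (D.e0 z' w' R) * g := by
  refine gl_ext fun x => ?_
  rw [gl_mul_mulVec, gl_mul_mulVec, el_mulVec (D.e0_sq hzw P), el_mulVec (D.e0_sq hzw' R), mulVec_add,
    D.e0_apply, D.e0_apply, mulVec_add, hz, hw, hcz, hcw, hR, hR']

end CfsgLib.TensorSympPair
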