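import Cfsg.Agent.Lib.TensorSympPair.Radical

/-!
The coefficients of the pair elements of an overgroup form an algebra invariant under the left isometries;
with a non-scalar member it contains the transvection coefficients.
-/

set_option autoImplicit false
set_option linter.unusedSectionVars false
set_option linter.unusedSimpArgs false
set_option linter.style.haveILetI false

namespace CfsgLib.TensorSympPair

open Matrix Module QuadraticMap
open CfsgLib.GeomClasses CfsgLib.GeomClasses.TensorMax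

variable {F : Type*} [Field F] {a b : ℕ}

attribute [-simp] Matrix.coe_units_inv

/-- `P` is the coefficient of pair elements of `H` at every orthogonal pair. -/
def Coeff (D : Data F a b) (H : Subgroup (GL (Fin a × Fin b) F))
    (P : (Fin a → F) →ₗ[F] (Fin a → F)) : Prop :=
  ∀ z w, z ≠ 0 → (∀ c : F, w ≠ c • z) → D.γ z w = 0 → el (D.e0 z w P) ∈ H

/-- `x ↦ β(u, x) u`. -/
def trv (D : Data F a b) (u : Fin a → F) : (Fin a → F) →ₗ[F] (Fin a → F) := (D.β u).smulRight u

namespace Data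

variable (D : Data F a b)

theorem adj_comp (P R : (Fin a → F) →ₗ[F] (Fin a → F)) : D.adj (P ∘ₗ R) = D.adj R ∘ₗ D.adj P :=
  D.adj_eq fun u v => by simp [adj_right]

theorem exists_bv (φ : Fin a → F) : ∃ v, D.bv v = φ := by
  let f : (Fin a → F) →ₗ[F] (Fin a → F) :=
    { toFun := D.bv
      map_add' := fun u v => by funext i; simp [bv]
      map_smul' := fun c u => by funext i; simp [bv] }
  have hi : Function.Injective f := by
    rw [← LinearMap.ker_eq_bot, Submodule.eq_bot_iff]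
    intro s hs
    refine D.βnd.1 s fun w => ?_
    rw [← D.bv_dot, show D.bv s = f s from rfl, LinearMap.mem_ker.1 hs, zero_dotProduct]
  exact LinearMap.injective_iff_surjective.1 hi φ

theorem exists_β_dual {x y : Fin a → F} (h : ∀ c : F, y ≠ c • x) : ∃ v, D.β v x = 0 ∧ D.β v y = 1 := by
  obtain ⟨θ, h1, h2⟩ := exists_perp_of_notMem h
  obtain ⟨v, rfl⟩ := D.exists_bv θ
  exact ⟨v, by rw [← bv_dot, h1], by rw [← bv_dot, h2]⟩

theorem exists_plane {z y : Fin b → F} (hb : 5 ≤ b) :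
    ∃ w w', D.γ z w = 0 ∧ D.γ y w = 0 ∧ D.γ z w' = 0 ∧ D.γ y w' = 0 ∧ D.γ w w' = 1 := by
  let f : (Fin b → F) →ₗ[F] F × F := (D.γ z).prod (D.γ y)
  obtain ⟨w, hw, hwn⟩ := SetLike.not_le_iff_exists.1 (fun hle : LinearMap.ker f ≤ Submodule.span F {z, y} => by
    have h1 := LinearMap.finrank_range_add_finrank_ker f
    have h2 := Submodule.finrank_le (LinearMap.range f)
    rw [Module.finrank_prod, Module.finrank_self] at h2
    rw [Module.finrank_fintype_fun_eq_card, Fintype.card_fin] at h1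
    have h3 := Submodule.finrank_mono hle
    classical
    have h4 := finrank_span_finset_le_card (R := F) ({z, y} : Finset (Fin b → F))
    rw [Finset.coe_pair, Set.finrank] at h4
    have h5 : ({z, y} : Finset (Fin b → F)).card ≤ 2 := Finset.card_le_two
    omega)
  obtain ⟨φ, hφ, hφW⟩ := exists_separating hwn
  obtain ⟨s, rfl⟩ := D.exists_gv φ
  rw [gv_dot] at hφ
  refine ⟨w, -(D.γ s w)⁻¹ • s, congrArg Prod.fst hw, congrArg Prod.snd hw, ?_, ?_, ?_⟩
  · have := hφW z (Submodule.subset_span (by simp))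
    rw [gv_dot] at this
    rw [map_smul, D.γ_zero _ _ this, smul_zero]
  · have := hφW y (Submodule.subset_span (by simp))
    rw [gv_dot] at this
    rw [map_smul, D.γ_zero _ _ this, smul_zero]
  · rw [map_smul, D.γ_flip s w, smul_eq_mul, neg_mul_neg, inv_mul_cancel₀ hφ]

end Data

namespace Over

variable {D : Data F a b} {H : Subgroup (GL (Fin a × Fin b) F)} (S : Over D H)
include S

theorem coeff_of_mem {P : (Fin a → F) →ₗ[F] (Fin a → F)} {z w : Fin b → F} (hz : z ≠ 0)
    (hw : ∀ c : F, w ≠ c • z) (hzw : D.γ z w = 0) (hmem : el (D.e0 z w P) ∈ H) : Coeff D H P := by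
  intro z' w' hz' hw' hzw'
  obtain ⟨g, hg, hgz, hgw⟩ := S.isom_pair hz hw hz' hw' (by rw [hzw, hzw'])
  obtain ⟨k, hk, hk'⟩ := S.exists_right hg
  refine mem_of_conj hk hmem ?_
  exact conj_e0 D (E := LinearMap.id) (fun u => by rw [hk', hgz]; rfl) (fun u => by rw [hk', hgw]; rfl)
    (fun x => S.cw_right hk (fun u => by rw [hk', hgz]) x)
    (fun x => S.cw_right hk (fun u => by rw [hk', hgw]) x) (fun u => rfl) (fun u => rfl) hzw hzw'

theorem coeff_add {P R : (Fin a → F) →ₗ[F] (Fin a → F)} (hP : Coeff D H P) (hR : Coeff D H R) :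
    Coeff D H (P + R) := fun z w hz hw hzw => by
  rw [D.e0_add, ← el_mul_el (D.e0_sq hzw P) (D.e0_sq hzw R) (D.e0_mul hzw hzw (D.γ_self w) P R)
    (D.e0_mul hzw hzw (D.γ_self w) R P)]
  exact H.mul_mem (hP z w hz hw hzw) (hR z w hz hw hzw)

theorem coeff_neg {P : (Fin a → F) →ₗ[F] (Fin a → F)} (hP : Coeff D H P) : Coeff D H (-P) :=
  fun z w hz hw hzw => by
    rw [D.e0_neg, el_neg (D.e0_sq hzw P)]
    exact H.inv_mem (hP z w hz hw hzw)

theorem coeff_sub {P R : (Fin a → F) →ₗ[F] (Fin a → F)} (hP : Coeff D H P) (hR : Coeff D H R) :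
    Coeff D H (P - R) := by
  rw [sub_eq_add_neg]
  exact S.coeff_add hP (S.coeff_neg hR)

theorem coeff_smul {P : (Fin a → F) →ₗ[F] (Fin a → F)} (hP : Coeff D H P) (c : F) : Coeff D H (c • P) :=
  fun z w hz hw hzw => by
    rcases eq_or_ne c 0 with rfl | hc
    · rw [zero_smul, D.e0_zero, el_zero]; exact H.one_mem
    rw [← D.e0_smul_right]
    refine hP z _ hz (fun d hd => hw (c⁻¹ * d) ?_) (by rw [map_smul, hzw, smul_zero])
    rw [mul_smul, ← hd, smul_smul, inv_mul_cancel₀ hc, one_smul]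

/-- Products of coefficients. -/
theorem coeff_comp {P R : (Fin a → F) →ₗ[F] (Fin a → F)} (hP : Coeff D H P) (hR : Coeff D H R) :
    Coeff D H (P ∘ₗ R) := by
  intro z y hz hy hzy
  obtain ⟨w, w', hzw, hyw, hzw', hyw', hww'⟩ := D.exists_plane (z := z) (y := y) S.five_le
  have hwz : ∀ c : F, w ≠ c • z := fun c hc => by
    rw [hc, map_smul, LinearMap.smul_apply, hzw', smul_zero] at hww'; exact zero_ne_one hww'
  have hw'0 : w' ≠ 0 := fun h => by rw [h, map_zero] at hww'; exact zero_ne_one hww'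
  have hw'y : D.γ w' y = 0 := D.γ_zero _ _ hyw'
  have hyw'' : ∀ c : F, y ≠ c • w' := fun c hc => by
    have h1 := D.γ_zero _ _ hyw
    rw [hc, map_smul, hww', smul_eq_mul, mul_one] at h1
    exact hy 0 (by rw [hc, h1, zero_smul, zero_smul])
  refine mem_of_swap (hP z w hz hwz hzw) (hR w' y hw'0 hyw'' hw'y) (gl_ext fun x => ?_)
  have hw'w : D.γ w' w = -1 := by rw [D.γ_flip w w', hww']
  simp only [gl_mul_mulVec, el_mulVec (D.e0_sq hzw P), el_mulVec (D.e0_sq hw'y R), el_mulVec (D.e0_sq hzy _),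
    D.e0_apply, map_add, map_smul, D.cw_pl, D.γ_self, hzw, hyw, hzw', hyw', hzy, hww', hw'w, hw'y,
    D.γ_zero _ _ hzw, D.γ_zero _ _ hyw, D.γ_zero _ _ hzw', D.γ_zero _ _ hzy, zero_smul, one_smul, map_zero,
    add_zero, zero_add, neg_one_smul, map_neg, D.adj_comp, LinearMap.comp_apply]
  abel

/-- Conjugation by a left isometry. -/
theorem coeff_conj {P : (Fin a → F) →ₗ[F] (Fin a → F)} (hP : Coeff D H P) {g : (Fin a → F) ≃ₗ[F] (Fin a → F)}
    (hg : g ∈ CfsgLib.Sp.isom D.β) : Coeff D H (g.toLinearMap ∘ₗ P ∘ₗ g.symm.toLinearMap) := by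
  intro z w hz hw hzw
  obtain ⟨k, hk, hk'⟩ := S.exists_left hg
  have hadj : D.adj (g.toLinearMap ∘ₗ P ∘ₗ g.symm.toLinearMap) =
      g.toLinearMap ∘ₗ D.adj P ∘ₗ g.symm.toLinearMap := D.adj_eq fun u v => by
    simp only [LinearMap.comp_apply, LinearEquiv.coe_coe]
    conv_lhs => rw [← g.apply_symm_apply v, hg, ← D.adj_right, ← hg, g.apply_symm_apply]
  have hcw : ∀ v x, D.cw v ((k : M2 F a b) *ᵥ x) = g (D.cw v x) := fun v x => D.eq_of_β fun u => by
    rw [← g.apply_symm_apply u, hg, ← S.cw_move hk (E := g.toLinearMap) (z := v) (z' := v) (fun p => hk' p v) x]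
    simp
  refine mem_of_conj hk (hP z w hz hw hzw) ?_
  exact conj_e0 D (E := g.toLinearMap) (fun u => hk' u z) (fun u => hk' u w) (hcw z) (hcw w)
    (fun u => by simp) (fun u => by simp [hadj]) hzw hzw

theorem coeff_twist {P : (Fin a → F) →ₗ[F] (Fin a → F)} (hP : Coeff D H P) (u : Fin a → F) (c : F) :
    ∃ Q, Coeff D H Q ∧ ∀ x, Q x = c • (D.β u (P x) • u - D.β u x • P u) -
      (c * c) • (D.β u x * D.β u (P u)) • u := by
  have hg := CfsgLib.Sp.tvec_mem_isom (B := D.β) (hA := D.βalt) u (-c)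
  refine ⟨_, S.coeff_sub (S.coeff_conj hP hg) hP, fun x => ?_⟩
  have hs : ∀ y, (CfsgLib.Sp.tvec D.β D.βalt u (-c)).symm y = y + (-(-c) * D.β y u) • u := fun _ => rfl
  have ha : ∀ y, CfsgLib.Sp.tvec D.β D.βalt u (-c) y = y + (-c * D.β y u) • u := fun _ => rfl
  simp only [LinearMap.sub_apply, LinearMap.comp_apply, LinearEquiv.coe_coe, hs, ha, map_add, map_smul,
    LinearMap.add_apply, LinearMap.smul_apply, smul_eq_mul, neg_neg, D.β_flip u (P x), D.β_flip u (P u),
    D.β_flip u x]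
  module

theorem coeff_trv_conj {u v : Fin a → F} (hu : u ≠ 0) (hv : v ≠ 0) (h : Coeff D H (trv D u)) :
    Coeff D H (trv D v) := by
  obtain ⟨g, hg, hgu⟩ := CfsgLib.Sp.transitive_ne_zero D.βalt D.βnd.1 u v hu hv
  have hg' := CfsgLib.Sp.transvGroup_le_isom hg
  convert S.coeff_conj h hg' using 1
  refine LinearMap.ext fun x => ?_
  simp only [trv, LinearMap.smulRight_apply, LinearMap.comp_apply, LinearEquiv.coe_coe, map_smul, hgu]
  conv_lhs => rw [← g.apply_symm_apply x, ← hgu, hg', hgu]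

/-- A non-scalar coefficient gives all transvection coefficients. -/
theorem coeff_trv (hex : ¬ (a = 2 ∧ ∀ c : F, c = 0 ∨ c = 1)) (hx : Extra D H) (v : Fin a → F) :
    Coeff D H (trv D v) := by
  rcases eq_or_ne v 0 with rfl | hv0
  · have h0 : trv D (0 : Fin a → F) = 0 := by ext; simp [trv]
    rw [h0]
    intro z w _ _ _
    rw [D.e0_zero, el_zero]
    exact H.one_mem
  obtain ⟨P, z, w, ⟨p, hp⟩, hz, hw, hzw, hmem⟩ := hx
  have hP := S.coeff_of_mem hz hw hzw hmem
  have hp0 : p ≠ 0 := fun h => hp 0 (by rw [h, map_zero, smul_zero])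
  suffices ∃ u, u ≠ 0 ∧ Coeff D H (trv D u) by
    obtain ⟨u, hu, h⟩ := this
    exact S.coeff_trv_conj hu hv0 h
  have ha := S.two_le
  by_cases ha2 : a = 2
  · -- two-dimensional left factor
    obtain ⟨c, hc0, hc1⟩ : ∃ c : F, c ≠ 0 ∧ c ≠ 1 := by
      by_contra hne
      push Not at hne
      exact hex ⟨ha2, fun c => or_iff_not_imp_left.2 (hne c)⟩
    have hne : D.β p (P p) ≠ 0 := fun h0 => by
      have hle : Submodule.span F {p} ≤ LinearMap.ker (D.β p) := by
        rw [Submodule.span_singleton_le_iff_mem, LinearMap.mem_ker, D.β_self]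
      have hne : D.β p ≠ 0 := fun h1 => hp0 (D.βnd.1 p fun y => by rw [h1, LinearMap.zero_apply])
      have h1 := LinearMap.finrank_range_add_finrank_ker (D.β p)
      have h2 : 0 < finrank F (LinearMap.range (D.β p)) :=
        Submodule.one_le_finrank_iff.2 (by rwa [ne_eq, LinearMap.range_eq_bot])
      rw [Module.finrank_fintype_fun_eq_card, Fintype.card_fin] at h1
      have heq := Submodule.eq_of_le_of_finrank_le hle (by rw [finrank_span_singleton hp0]; omega)
      obtain ⟨d, hd⟩ := Submodule.mem_span_singleton.1 (show P p ∈ Submodule.span F {p} by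
        rw [heq, LinearMap.mem_ker, h0])
      exact hp d hd.symm
    obtain ⟨Q₁, hQ₁, e₁⟩ := S.coeff_twist hP p 1
    obtain ⟨Q₂, hQ₂, e₂⟩ := S.coeff_twist hP p c
    have hd : (c - c * c) * D.β p (P p) ≠ 0 := mul_ne_zero (by
      rw [show c - c * c = c * (1 - c) by ring]; exact mul_ne_zero hc0 (sub_ne_zero.2 hc1.symm)) hne
    refine ⟨p, hp0, ?_⟩
    convert S.coeff_smul (S.coeff_sub hQ₂ (S.coeff_smul hQ₁ c)) ((c - c * c) * D.β p (P p))⁻¹ using 1
    refine LinearMap.ext fun x => ?_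
    rw [LinearMap.smul_apply, LinearMap.sub_apply, LinearMap.smul_apply, e₁, e₂, eq_inv_smul_iff₀ hd, trv,
      LinearMap.smulRight_apply]
    module
  -- a vector orthogonal to `p` pairing with `P p`
  obtain ⟨v₀, hv₀p, hv₀P⟩ := D.exists_β_dual hp
  obtain ⟨v, hvp, hvP, hv⟩ : ∃ v, D.β v p = 0 ∧ D.β v (P p) = 1 ∧ ∀ c : F, v ≠ c • p := by
    by_cases hc : ∀ c : F, v₀ ≠ c • p
    · exact ⟨v₀, hv₀p, hv₀P, hc⟩
    push Not at hc
    obtain ⟨c, rfl⟩ := hc
    obtain ⟨θ, hθ0, hθp, hθP⟩ := exists_perp_perp (show 3 ≤ a by omega) (D.bv p) (D.bv (P p))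
    rw [dotProduct_comm, D.bv_dot] at hθp hθP
    refine ⟨c • p + θ, by simp [D.β_self, D.β_zero _ _ hθp],
      by rw [map_add, LinearMap.add_apply, hv₀P, D.β_zero _ _ hθP, add_zero], fun d hd => ?_⟩
    have hθ' : θ = (d - c) • p := by rw [sub_smul, ← hd]; abel
    have hne : D.β (P p) p ≠ 0 := fun h0 => by
      rw [map_smul, LinearMap.smul_apply, D.β_zero _ _ h0, smul_zero] at hv₀P; exact zero_ne_one hv₀P
    rw [hθ', map_smul, smul_eq_mul] at hθP
    exact hθ0 (by rw [hθ', (mul_eq_zero.1 hθP).resolve_right hne, zero_smul])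
  have hpv : D.β p v = 0 := D.β_zero _ _ hvp
  obtain ⟨Q, hQ, eQ⟩ := S.coeff_twist hP p 1
  obtain ⟨R, hR, eR⟩ := S.coeff_twist hQ v 1
  set ρ := D.β p (P v) with hρ
  have hQv : Q v = ρ • p := by rw [eQ, hpv]; simp [hρ]
  have eR' : ∀ x, R x = -(D.β p x) • v - (ρ * D.β v x) • p := fun x => by
    rw [eR, hQv, eQ x]
    simp only [one_smul, one_mul, map_sub, map_smul, smul_eq_mul, hvp, hvP, mul_zero, mul_one, zero_smul, sub_zero,
      zero_sub, neg_smul, smul_smul, mul_comm ρ, zero_mul]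
  -- the pair `(v, p)` and a pair `(w', v)`
  have hv0' : v ≠ 0 := fun h => hv 0 (by rw [h, zero_smul])
  have hpv' : ∀ c : F, p ≠ c • v := indep_symm hp0 hv
  obtain ⟨w', hw'v, hw'p⟩ := D.exists_β_dual hpv'
  have hw'0 : w' ≠ 0 := fun h => by rw [h, map_zero] at hw'p; exact zero_ne_one hw'p
  have hvw' : ∀ c : F, v ≠ c • w' := fun c hc => by
    rcases eq_or_ne c 0 with rfl | hc0
    · exact hv0' (by rw [hc, zero_smul])
    · have h2 := hvp
      rw [hc, map_smul, LinearMap.smul_apply, hw'p, smul_eq_mul, mul_one] at h2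
      exact hc0 h2
  obtain ⟨g, hg, hgx⟩ := CfsgLib.Sp.witt_family D.βalt D.βnd.1 ![p, v] ![v, p]
    ((LinearIndependent.pair_iff' hp0).2 fun c hc => hv c hc.symm)
    ((LinearIndependent.pair_iff' hv0').2 fun c hc => hpv' c hc.symm)
    (fun i j => by fin_cases i <;> fin_cases j <;> simp [D.β_self, hvp, hpv])
  obtain ⟨g', hg', hgx'⟩ := CfsgLib.Sp.witt_family D.βalt D.βnd.1 ![p, v] ![w', v]
    ((LinearIndependent.pair_iff' hp0).2 fun c hc => hv c hc.symm)
    ((LinearIndependent.pair_iff' hw'0).2 fun c hc => hvw' c hc.symm)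
    (fun i j => by fin_cases i <;> fin_cases j <;> simp [D.β_self, hvp, hpv, hw'v, D.β_zero _ _ hw'v])
  have hgi := CfsgLib.Sp.transvGroup_le_isom hg
  have hgi' := CfsgLib.Sp.transvGroup_le_isom hg'
  have hgp : g p = v := hgx 0
  have hgv : g v = p := hgx 1
  have hgp' : g' p = w' := hgx' 0
  have hgv' : g' v = v := hgx' 1
  refine ⟨v, hv0', ?_⟩
  convert S.coeff_comp (S.coeff_conj hR hgi') (S.coeff_conj hR hgi) using 1
  refine LinearMap.ext fun x => ?_
  have e2 : ∀ x, g (R (g.symm x)) = -(D.β v x) • p - (ρ * D.β p x) • v := fun x => by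
    rw [eR', map_sub, map_smul, map_smul, hgv, hgp, ← hgi p (g.symm x), ← hgi v (g.symm x), hgp, hgv,
      g.apply_symm_apply]
  have e3 : ∀ x, g' (R (g'.symm x)) = -(D.β w' x) • v - (ρ * D.β v x) • w' := fun x => by
    rw [eR', map_sub, map_smul, map_smul, hgv', hgp', ← hgi' p (g'.symm x), ← hgi' v (g'.symm x), hgp', hgv',
      g'.apply_symm_apply]
  simp only [LinearMap.comp_apply, LinearEquiv.coe_coe, e2, e3]
  simp only [trv, LinearMap.smulRight_apply, map_sub, map_smul, map_neg, hvp, hw'p, hw'v, D.β_self, smul_eq_mul,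
    mul_zero, mul_one, neg_zero, sub_zero, neg_neg, zero_smul]

end Over

end CfsgLib.TensorSympPair
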