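import Cfsg.Agent.Lib.TensorSympPair.Radical

/-!
An element of an overgroup which stabilises some `U ⊗ z` is a tensor, unless there is a non-scalar pair element.
-/

set_option autoImplicit false
set_option linter.unusedSectionVars false
set_option linter.unusedSimpArgs false
set_option linter.style.haveILetI false

namespace CfsgLib.TensorSympPair

open Matrix Module QuadraticMap
open CfsgLib.GeomClasses CfsgLib.GeomClasses.TensorMax

variable {F : Type*} [Field F] {a b : ℕ}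

attribute [-simp] Matrix.coe_units_inv

/-- `g` maps `U ⊗ z` to itself through the bijection `E`. -/
structure OnLine (g : GL (Fin a × Fin b) F) (z : Fin b → F) (E : (Fin a → F) ≃ₗ[F] (Fin a → F)) : Prop where
  fwd : ∀ u, (g : M2 F a b) *ᵥ pl z u = pl z (E u)
  bwd : ∀ u, ((g⁻¹ : GL (Fin a × Fin b) F) : M2 F a b) *ᵥ pl z u = pl z (E.symm u)

theorem OnLine.inv {g : GL (Fin a × Fin b) F} {z : Fin b → F} {E : (Fin a → F) ≃ₗ[F] (Fin a → F)}
    (h : OnLine g z E) : OnLine g⁻¹ z E.symm :=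
  ⟨h.bwd, fun u => by rw [inv_inv, LinearEquiv.symm_symm, h.fwd]⟩

theorem exists_onLine {g : GL (Fin a × Fin b) F} {z : Fin b → F} (hz : z ≠ 0)
    (h : ∀ u, (g : M2 F a b) *ᵥ pl z u ∈ L z) : ∃ E, OnLine g z E := by
  obtain ⟨θ, hθ⟩ := exists_dot_eq_one hz
  set E₀ : (Fin a → F) →ₗ[F] (Fin a → F) := C θ ∘ₗ Matrix.mulVecLin (g : M2 F a b) ∘ₗ pl z with hE₀
  have hf : ∀ u, (g : M2 F a b) *ᵥ pl z u = pl z (E₀ u) := fun u => by
    obtain ⟨y, hy⟩ := h u
    simp [hE₀, ← hy, C_pl, hθ]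
  have hi : Function.Injective E₀ := fun u v e => by
    have h1 := gl_mulVec_injective g (show (g : M2 F a b) *ᵥ pl z u = (g : M2 F a b) *ᵥ pl z v by rw [hf, hf, e])
    simpa [C_pl, hθ] using congrArg (C θ) h1
  refine ⟨LinearEquiv.ofInjectiveEndo E₀ hi, hf, fun u => gl_mulVec_injective g ?_⟩
  simp only [gl_mulVec_inv_mulVec]
  rw [hf]
  exact congrArg _ ((LinearEquiv.ofInjectiveEndo E₀ hi).apply_symm_apply u).symm

theorem pl_indep_cancel {z w : Fin b → F} (hw : ∀ c : F, w ≠ c • z) (hz : z ≠ 0)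
    {A B : (Fin a → F) →ₗ[F] (Fin a → F)} {s : Fin b → F}
    (h : ∀ u, pl z (A u) + pl w (B u) = pl s u) :
    ∃ α β : F, (∀ u, A u = α • u) ∧ ∀ u, B u = β • u := by
  obtain ⟨φ, hφz, hφw⟩ := exists_perp_of_notMem hw
  obtain ⟨ψ, hψw, hψz⟩ := exists_perp_of_notMem (indep_symm hz hw)
  refine ⟨ψ ⬝ᵥ s, φ ⬝ᵥ s, fun u => ?_, fun u => ?_⟩
  · simpa [C_pl, hψw, hψz] using congrArg (C ψ) (h u)
  · simpa [C_pl, hφw, hφz] using congrArg (C φ) (h u)

/-- The image of a vector of a line in a coordinate form. -/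
def HasForm (g : GL (Fin a × Fin b) F) (z : Fin b → F) (E : (Fin a → F) ≃ₗ[F] (Fin a → F)) (v : Fin b → F) : Prop :=
  ∃ (w : Fin b → F) (A : (Fin a → F) →ₗ[F] (Fin a → F)),
    ∀ u, (g : M2 F a b) *ᵥ pl v u = pl w (E u) + pl z (A u)

namespace Over

variable {D : Data F a b} {H : Subgroup (GL (Fin a × Fin b) F)} (S : Over D H)
include S

theorem cz_line {g : GL (Fin a × Fin b) F} (hg : g ∈ H) {z : Fin b → F}
    {E : (Fin a → F) ≃ₗ[F] (Fin a → F)} (hE : OnLine g z E) (x : V2 F a b) :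
    D.cw z (((g⁻¹ : GL (Fin a × Fin b) F) : M2 F a b) *ᵥ x) = D.adj E.toLinearMap (D.cw z x) :=
  D.eq_of_β fun u => by
    rw [D.adj_right]
    have h := S.cw_move (H.inv_mem hg) (E := E.symm.toLinearMap) hE.bwd x (E u)
    simpa using h

/-- The conjugate of a cross element. -/
theorem conj_cross {g : GL (Fin a × Fin b) F} (hg : g ∈ H) {z y : Fin b → F} (hzy : D.γ z y = 0)
    {E : (Fin a → F) ≃ₗ[F] (Fin a → F)} (hE : OnLine g z E) :
    ∃ k ∈ H, ∀ x, (k : M2 F a b) *ᵥ x =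
      x + pl z (E (D.cw y (((g⁻¹ : GL (Fin a × Fin b) F) : M2 F a b) *ᵥ x))) +
        (g : M2 F a b) *ᵥ pl y (D.adj E.toLinearMap (D.cw z x)) := by
  have hmem := S.cross_mem hzy 1
  rw [one_smul] at hmem
  refine ⟨g * el (D.e0 z y LinearMap.id) * g⁻¹, H.mul_mem (H.mul_mem hg hmem) (H.inv_mem hg), fun x => ?_⟩
  rw [conj_el_mulVec g (D.e0_sq hzy _), D.e0_apply, D.adj_id, LinearMap.id_apply, LinearMap.id_apply,
    S.cz_line hg hE, mulVec_add, hE.fwd, ← add_assoc]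

theorem conj_cross_tensor (hno : ¬ Extra D H) {g : GL (Fin a × Fin b) F} (hg : g ∈ H) {z y : Fin b → F}
    (hz : z ≠ 0) (hzy : D.γ z y = 0) {E : (Fin a → F) ≃ₗ[F] (Fin a → F)} (hE : OnLine g z E) :
    ∃ G : (Fin b → F) →ₗ[F] (Fin b → F), ∀ v u,
      pl z (E (D.cw y (((g⁻¹ : GL (Fin a × Fin b) F) : M2 F a b) *ᵥ pl v u))) +
        D.γ z v • ((g : M2 F a b) *ᵥ pl y (D.adj E.toLinearMap u)) = pl (G v - v) u := by
  obtain ⟨k, hk, hkx⟩ := S.conj_cross hg hzy hE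
  have hyz := D.γ_zero _ _ hzy
  have hkz : ∀ u, (k : M2 F a b) *ᵥ pl z u = pl z u := fun u => by
    rw [hkx, hE.bwd, D.cw_pl, D.cw_pl, D.γ_self, hyz, zero_smul, zero_smul, map_zero, map_zero, map_zero,
      map_zero, mulVec_zero, add_zero, add_zero]
  have hkp : ∀ v, D.γ z v = 0 → ∃ R : (Fin a → F) →ₗ[F] (Fin a → F),
      ∀ u, (k : M2 F a b) *ᵥ pl v u = pl v u + pl z (R u) := fun v hv =>
    ⟨E.toLinearMap ∘ₗ D.cw y ∘ₗ Matrix.mulVecLin ((g⁻¹ : GL (Fin a × Fin b) F) : M2 F a b) ∘ₗ pl v,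
      fun u => by
        rw [hkx, D.cw_pl, hv, zero_smul, map_zero, map_zero, mulVec_zero, add_zero]
        rfl⟩
  obtain ⟨G, hG⟩ := (S.radical_tensor hk hz hkz hkp).resolve_left hno
  refine ⟨G, fun v u => ?_⟩
  have h := hG u v
  rw [hkx, D.cw_pl, map_smul, map_smul, mulVec_smul] at h
  rw [pl_sub_left, ← h]
  abel

/-- On `z^⊥` the coefficients are scalars. -/
theorem scalar_perp (hno : ¬ Extra D H) {g : GL (Fin a × Fin b) F} (hg : g ∈ H) {z y v : Fin b → F}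
    (hz : z ≠ 0) (hzy : D.γ z y = 0) (hzv : D.γ z v = 0) {E : (Fin a → F) ≃ₗ[F] (Fin a → F)}
    (hE : OnLine g z E) :
    ∃ l : F, ∀ u, E (D.cw y (((g⁻¹ : GL (Fin a × Fin b) F) : M2 F a b) *ᵥ pl v u)) = l • u := by
  obtain ⟨G, hG⟩ := S.conj_cross_tensor hno hg hz hzy hE
  obtain ⟨θ, hθ⟩ := exists_dot_eq_one hz
  refine ⟨θ ⬝ᵥ (G v - v), fun u => ?_⟩
  have h := hG v u
  rw [hzv, zero_smul, add_zero] at h
  simpa [C_pl, hθ] using congrArg (C θ) h

/-- From scalar coefficients, the form of the image. -/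
theorem form_of_scalar {g : GL (Fin a × Fin b) F} {z v : Fin b → F} (hz : z ≠ 0)
    {E : (Fin a → F) ≃ₗ[F] (Fin a → F)}
    (h : ∀ y, D.γ z y = 0 →
      ∃ l : F, ∀ u, E (D.cw y (((g⁻¹ : GL (Fin a × Fin b) F) : M2 F a b) *ᵥ pl v u)) = l • u) :
    HasForm g⁻¹ z E.symm v := by
  obtain ⟨x₀, hx₀⟩ := D.exists_pair_one hz
  obtain ⟨e, he⟩ : ∃ e : Fin a → F, e ≠ 0 := ⟨Pi.single ⟨0, by have := S.two_le; omega⟩ 1, by simp⟩
  have he' : E.symm e ≠ 0 := fun h0 => he (E.symm.injective (by rw [h0, map_zero]))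
  obtain ⟨θ, hθ⟩ := exists_dot_eq_one he'
  set X : (Fin a → F) →ₗ[F] V2 F a b :=
    Matrix.mulVecLin ((g⁻¹ : GL (Fin a × Fin b) F) : M2 F a b) ∘ₗ pl v with hX
  have hXa : ∀ u, X u = ((g⁻¹ : GL (Fin a × Fin b) F) : M2 F a b) *ᵥ pl v u := fun u => rfl
  set w := TensorMax.D θ (X e) with hw
  refine ⟨w, -(D.cw x₀ ∘ₗ (X - pl w ∘ₗ E.symm.toLinearMap)), fun u => ?_⟩
  have hd := D.eq_pl_of_perp hx₀ (d := X u - pl w (E.symm u)) fun y hy => by
    obtain ⟨l, hl⟩ := h y hy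
    have hl' : ∀ p, D.cw y (X p) = l • E.symm p := fun p => by
      rw [← map_smul, ← hl p, LinearEquiv.symm_apply_apply]; rfl
    rw [map_sub, hl', D.cw_pl, hw, ← D.dot_cw, hl', dotProduct_smul, hθ, smul_eq_mul, mul_one, sub_self]
  rw [← hXa, eq_add_of_sub_eq' hd]
  rfl

theorem form_perp (hno : ¬ Extra D H) {g : GL (Fin a × Fin b) F} (hg : g ∈ H) {z v : Fin b → F}
    (hz : z ≠ 0) (hzv : D.γ z v = 0) {E : (Fin a → F) ≃ₗ[F] (Fin a → F)} (hE : OnLine g z E) :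
    HasForm g z E v := by
  have h := S.form_of_scalar (g := g⁻¹) (E := E.symm) hz fun y hy =>
    S.scalar_perp hno (H.inv_mem hg) hz hy hzv hE.inv
  rwa [inv_inv, LinearEquiv.symm_symm] at h

/-- The bijection on the line is a similitude. -/
theorem similitude (hno : ¬ Extra D H) {g : GL (Fin a × Fin b) F} (hg : g ∈ H) {z : Fin b → F}
    (hz : z ≠ 0) {E : (Fin a → F) ≃ₗ[F] (Fin a → F)} (hE : OnLine g z E) :
    ∃ c : F, c ≠ 0 ∧ (∀ u, E (D.adj E.toLinearMap u) = c • u) ∧ ∀ u v, D.β (E u) (E v) = c * D.β u v := by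
  obtain ⟨y, hzy, hy⟩ := D.exists_perp_indep S.three_le z
  obtain ⟨G, hG⟩ := S.conj_cross_tensor hno hg hz hzy hE
  obtain ⟨w, A, hw⟩ := S.form_perp hno hg hz hzy hE
  obtain ⟨x₀, hx₀⟩ := D.exists_pair_one hz
  obtain ⟨e, he⟩ : ∃ e : Fin a → F, e ≠ 0 := ⟨Pi.single ⟨0, by have := S.two_le; omega⟩ 1, by simp⟩
  have hwz : ∀ d : F, w ≠ d • z := fun d hd => by
    have h1 : pl y e = pl z (E.symm (d • E e + A e)) := by
      apply gl_mulVec_injective g
      show (g : M2 F a b) *ᵥ pl y e = (g : M2 F a b) *ᵥ pl z _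
      rw [hw, hE.fwd, LinearEquiv.apply_symm_apply, hd, map_add, pl_smul_left, map_smul]
    obtain ⟨φ, hφz, hφy⟩ := exists_perp_of_notMem hy
    have h2 := congrArg (C φ) h1
    rw [C_pl, C_pl, hφz, hφy, one_smul, zero_smul] at h2
    exact he h2
  set T : (Fin a → F) →ₗ[F] (Fin a → F) := E.toLinearMap ∘ₗ D.cw y ∘ₗ
    Matrix.mulVecLin ((g⁻¹ : GL (Fin a × Fin b) F) : M2 F a b) ∘ₗ pl x₀ with hT
  obtain ⟨-, c, -, hc⟩ := pl_indep_cancel hwz hz (A := T + A ∘ₗ D.adj E.toLinearMap)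
    (B := E.toLinearMap ∘ₗ D.adj E.toLinearMap) (s := G x₀ - x₀) fun u => by
    rw [← hG x₀ u, hx₀, one_smul, hw]
    simp only [hT, LinearMap.add_apply, LinearMap.comp_apply, LinearEquiv.coe_coe, Matrix.mulVecLin_apply, map_add]
    abel
  simp only [LinearMap.comp_apply, LinearEquiv.coe_coe] at hc
  have hsim : ∀ u, D.adj E.toLinearMap (E u) = c • u := fun u => E.injective (by rw [hc, map_smul])
  refine ⟨c, fun h0 => ?_, hc, fun u v => ?_⟩
  · obtain ⟨f, hf⟩ : ∃ f, D.β e f ≠ 0 := by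
      by_contra hne
      push Not at hne
      exact he (D.βnd.1 e hne)
    refine hf ?_
    have h1 := D.adj_right E.toLinearMap (E.symm e) (E (E.symm f))
    rw [hsim, h0, zero_smul, map_zero] at h1
    simpa using h1.symm
  · have h1 := D.adj_right E.toLinearMap u (E v)
    rw [hsim, map_smul, smul_eq_mul] at h1
    exact h1.symm

/-- Conjugates of left elements force the central coefficient to be a scalar. -/
theorem central_coeff (hno : ¬ Extra D H) (hex : ¬ (a = 2 ∧ ∀ c : F, c = 0 ∨ c = 1))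
    {g : GL (Fin a × Fin b) F} (hg : g ∈ H) {z v v' w : Fin b → F} (hz : z ≠ 0)
    {E : (Fin a → F) ≃ₗ[F] (Fin a → F)} (hE : OnLine g z E) {A B : (Fin a → F) →ₗ[F] (Fin a → F)}
    (hA : ∀ u, ((g⁻¹ : GL (Fin a × Fin b) F) : M2 F a b) *ᵥ pl v u = pl w (E.symm u) + pl z (A u))
    (hB : ∀ u, (g : M2 F a b) *ᵥ pl w u = pl v' (E u) + pl z (B u)) :
    ∃ ν : F, ∀ u, E (A u) = ν • u := by
  obtain ⟨c₀, hc₀, -, hsim⟩ := S.similitude hno hg hz hE
  set σ : (Fin a → F) →ₗ[F] (Fin a → F) := E.toLinearMap ∘ₗ A with hσ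
  have key : ∀ N : (Fin a → F) ≃ₗ[F] (Fin a → F), N ∈ CfsgLib.Sp.isom D.β →
      ∃ α : F, ∀ u, N (σ u) - σ (N u) = α • N u := by
    intro N' hN'
    set N : (Fin a → F) ≃ₗ[F] (Fin a → F) := E.trans (N'.trans E.symm) with hNdef
    have hN : N ∈ CfsgLib.Sp.isom D.β := fun p r => mul_left_cancel₀ hc₀ (by
      rw [← hsim, ← hsim]
      simp only [hNdef, LinearEquiv.trans_apply, LinearEquiv.apply_symm_apply]
      exact hN' _ _)
    have hNE : ∀ u, E (N u) = N' (E u) := fun u => by simp [hNdef]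
    obtain ⟨k, hk, hk'⟩ := S.exists_left hN
    obtain ⟨l, hl, hl'⟩ := S.exists_left hN'
    have hlinv : ∀ u x, ((l⁻¹ : GL (Fin a × Fin b) F) : M2 F a b) *ᵥ pl x u = pl x (N'.symm u) := fun u x => by
      apply gl_mulVec_injective l
      simp only [gl_mulVec_inv_mulVec, hl', LinearEquiv.apply_symm_apply]
    set h := g * k * g⁻¹ * l⁻¹ with hh
    have hhmem : h ∈ H := H.mul_mem (H.mul_mem (H.mul_mem hg hk) (H.inv_mem hg)) (H.inv_mem hl)
    have hact : ∀ (x x' y : Fin b → F) (A' B' : (Fin a → F) →ₗ[F] (Fin a → F)),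
        (∀ u, ((g⁻¹ : GL (Fin a × Fin b) F) : M2 F a b) *ᵥ pl x u = pl y (E.symm u) + pl z (A' u)) →
        (∀ u, (g : M2 F a b) *ᵥ pl y u = pl x' (E u) + pl z (B' u)) →
        ∀ u, (h : M2 F a b) *ᵥ pl x (N' u) = pl x (N' u) + pl z (N' (E (A' u)) - E (A' (N' u))) := by
      intro x x' y A' B' hA' hB' u
      have hcomp : ∀ t, pl x' t = pl x t - pl z (B' (E.symm t) + E (A' t)) := fun t => by
        have h1 := congrArg ((g : M2 F a b) *ᵥ ·) (hA' t)
        simp only [gl_mulVec_inv_mulVec, mulVec_add, hB', hE.fwd, LinearEquiv.apply_symm_apply] at h1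
        rw [h1, map_add]; abel
      rw [hh, gl_mul_mulVec, hlinv, LinearEquiv.symm_apply_apply, gl_mul_mulVec, gl_mul_mulVec, hA',
        mulVec_add, hk', hk', mulVec_add, hB', hE.fwd, hNE, hNE, LinearEquiv.apply_symm_apply, hcomp]
      have e1 : E.symm (N' u) = N (E.symm u) := by simp [hNdef]
      rw [e1, map_add, map_sub]
      abel
    have hhz : ∀ u, (h : M2 F a b) *ᵥ pl z u = pl z u := fun u => by
      rw [hh, gl_mul_mulVec, hlinv, gl_mul_mulVec, gl_mul_mulVec, hE.bwd, hk', hE.fwd, hNE]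
      simp
    have hhp : ∀ x, D.γ z x = 0 → ∃ R : (Fin a → F) →ₗ[F] (Fin a → F),
        ∀ u, (h : M2 F a b) *ᵥ pl x u = pl x u + pl z (R u) := by
      intro x hx
      obtain ⟨y, A', hA'⟩ := S.form_perp hno (H.inv_mem hg) hz hx hE.inv
      have hy : D.γ z y = 0 := by
        obtain ⟨e, he⟩ : ∃ e : Fin a → F, e ≠ 0 := ⟨Pi.single ⟨0, by have := S.two_le; omega⟩ 1, by simp⟩
        have h1 := congrArg (D.cw z) (hA' e)
        rw [S.cz_line hg hE, map_add, D.cw_pl, D.cw_pl, D.cw_pl, hx, D.γ_self, zero_smul, zero_smul, map_zero,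
          add_zero, eq_comm, smul_eq_zero] at h1
        exact h1.resolve_right fun h0 => he (E.symm.injective (by rw [h0, map_zero]))
      obtain ⟨x', B', hB'⟩ := S.form_perp hno hg hz hy hE
      refine ⟨(N'.toLinearMap ∘ₗ E.toLinearMap ∘ₗ A' - E.toLinearMap ∘ₗ A' ∘ₗ N'.toLinearMap) ∘ₗ
        N'.symm.toLinearMap, fun u => ?_⟩
      have h1 := hact x x' y A' B' hA' hB' (N'.symm u)
      simpa using h1
    obtain ⟨G, hG⟩ := (S.radical_tensor hhmem hz hhz hhp).resolve_left hno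
    obtain ⟨θ, hθ⟩ := exists_dot_eq_one hz
    refine ⟨θ ⬝ᵥ (G v - v), fun u => ?_⟩
    have h1 := hact v v' w A B hA hB u
    rw [hG, ← sub_eq_iff_eq_add', ← pl_sub_left] at h1
    simpa [hσ, C_pl, hθ] using (congrArg (C θ) h1).symm
  refine scalar_of_not_nonScalar (P := σ) fun ⟨p, hp⟩ => ?_
  have hp0 : p ≠ 0 := fun h0 => hp 0 (by rw [h0, map_zero, smul_zero])
  have key' : ∀ c : F, ∃ α : F, ∀ u,
      (c * D.β (σ u) p) • p - (c * D.β u p) • σ p = α • (u + (c * D.β u p) • p) := fun c => by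
    obtain ⟨α, hα⟩ := key (CfsgLib.Sp.tvec D.β D.βalt p c) (CfsgLib.Sp.tvec_mem_isom p c)
    refine ⟨α, fun u => ?_⟩
    have h1 := hα u
    change σ u + (c * D.β (σ u) p) • p - σ (u + (c * D.β u p) • p) = α • (u + (c * D.β u p) • p) at h1
    rw [← h1, map_add, map_smul]
    abel
  obtain ⟨f, hf⟩ : ∃ f, D.β f p = 1 := by
    obtain ⟨f, hf⟩ : ∃ f, D.β f p ≠ 0 := by
      by_contra hne
      push Not at hne
      exact hp0 (D.βnd.2 p hne)
    exact ⟨(D.β f p)⁻¹ • f, by rw [map_smul, LinearMap.smul_apply, smul_eq_mul, inv_mul_cancel₀ hf]⟩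
  obtain ⟨α, hα⟩ := key' 1
  suffices hα0 : α = 0 by
    have h1 := hα f
    rw [hα0, zero_smul, hf, one_mul, mul_one, one_smul, sub_eq_zero] at h1
    exact hp _ h1.symm
  have hpp : α = D.β (σ p) p := by
    have h1 := hα p
    rw [D.β_self, mul_zero, zero_smul, zero_smul, sub_zero, add_zero, one_mul] at h1
    exact (smul_left_injective F hp0 h1).symm
  by_cases ha : a = 2
  · obtain ⟨c, hc⟩ : ∃ c : F, c ≠ 0 ∧ c ≠ 1 := by
      by_contra hne
      push Not at hne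
      exact hex ⟨ha, fun c => or_iff_not_imp_left.2 (hne c)⟩
    obtain ⟨α', hα'⟩ := key' c
    have hpp' : α' = c * D.β (σ p) p := by
      have h1 := hα' p
      rw [D.β_self, mul_zero, zero_smul, zero_smul, sub_zero, add_zero] at h1
      exact (smul_left_injective F hp0 h1).symm
    have hfc : ∀ (d t : F), (∀ u, (d * D.β (σ u) p) • p - (d * D.β u p) • σ p = t • (u + (d * D.β u p) • p)) →
        d ≠ 0 → t = D.β (σ f) p - D.β f (σ p) := fun d t ht hd => by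
      have h1 := congrArg (D.β f) (ht f)
      simp only [map_sub, map_add, map_smul, smul_eq_mul, hf, D.β_self, mul_one, zero_add] at h1
      exact mul_left_cancel₀ hd (by linear_combination -h1)
    have e : (c - 1) * D.β (σ p) p = 0 := by
      have h1 := (hfc 1 α hα one_ne_zero).trans (hfc c α' hα' hc.1).symm
      rw [hpp, hpp'] at h1
      linear_combination -h1
    rw [hpp, (mul_eq_zero.1 e).resolve_left (sub_ne_zero.2 hc.2)]
  · obtain ⟨r, hr, hrp⟩ := exists_perp_notMem (by have := S.two_le; omega : 3 ≤ a) (D.bv p) p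
    rw [dotProduct_comm, D.bv_dot] at hr
    have h1 := hα r
    rw [D.β_zero _ _ hr, mul_zero, zero_smul, zero_smul, sub_zero, add_zero, one_mul] at h1
    by_contra hne
    exact hrp (α⁻¹ * D.β (σ r) p) (by rw [mul_smul, h1, smul_smul, inv_mul_cancel₀ hne, one_smul])

/-- Purity on `z^⊥`. -/
theorem pure_perp (hno : ¬ Extra D H) (hex : ¬ (a = 2 ∧ ∀ c : F, c = 0 ∨ c = 1)) {g : GL (Fin a × Fin b) F}
    (hg : g ∈ H) {z v : Fin b → F} (hz : z ≠ 0) (hzv : D.γ z v = 0) {E : (Fin a → F) ≃ₗ[F] (Fin a → F)}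
    (hE : OnLine g z E) : ∃ w, ∀ u, (g : M2 F a b) *ᵥ pl v u = pl w (E u) := by
  obtain ⟨w, A, hA⟩ := S.form_perp hno hg hz hzv hE
  have hw : D.γ z w = 0 := by
    obtain ⟨e, he⟩ : ∃ e : Fin a → F, e ≠ 0 := ⟨Pi.single ⟨0, by have := S.two_le; omega⟩ 1, by simp⟩
    have h1 := S.cz_line (H.inv_mem hg) hE.inv (pl v e)
    rw [inv_inv, hA, map_add, D.cw_pl, D.cw_pl, D.cw_pl, hzv, D.γ_self, zero_smul, zero_smul, map_zero,
      add_zero, smul_eq_zero] at h1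
    exact h1.resolve_right fun h0 => he (E.injective (by rw [h0, map_zero]))
  obtain ⟨v', B, hB⟩ := S.form_perp hno (H.inv_mem hg) hz hw hE.inv
  have hA' : ∀ u, ((g⁻¹⁻¹ : GL (Fin a × Fin b) F) : M2 F a b) *ᵥ pl v u = pl w (E.symm.symm u) + pl z (A u) :=
    fun u => by rw [inv_inv, LinearEquiv.symm_symm]; exact hA u
  obtain ⟨ν, hν⟩ := S.central_coeff hno hex (H.inv_mem hg) hz hE.inv hA' hB
  refine ⟨w + ν • z, fun u => ?_⟩
  rw [hA, pl_add_left, pl_smul_left, ← map_smul (pl z), ← map_smul E, ← hν, LinearEquiv.apply_symm_apply]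

theorem scalar_all (hno : ¬ Extra D H) (hex : ¬ (a = 2 ∧ ∀ c : F, c = 0 ∨ c = 1)) {g : GL (Fin a × Fin b) F}
    (hg : g ∈ H) {z y : Fin b → F} (hz : z ≠ 0) (hzy : D.γ z y = 0) (v : Fin b → F)
    {E : (Fin a → F) ≃ₗ[F] (Fin a → F)} (hE : OnLine g z E) :
    ∃ l : F, ∀ u, E (D.cw y (((g⁻¹ : GL (Fin a × Fin b) F) : M2 F a b) *ᵥ pl v u)) = l • u := by
  obtain ⟨G, hG⟩ := S.conj_cross_tensor hno hg hz hzy hE
  obtain ⟨w, hw⟩ := S.pure_perp hno hex hg hz hzy hE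
  obtain ⟨c, -, hc, -⟩ := S.similitude hno hg hz hE
  obtain ⟨θ, hθ⟩ := exists_dot_eq_one hz
  refine ⟨θ ⬝ᵥ (G v - v) - D.γ z v * c * (θ ⬝ᵥ w), fun u => ?_⟩
  have h := congrArg (C θ) (hG v u)
  rw [hw, hc, map_add, map_smul, C_pl, C_pl, C_pl, hθ, one_smul, smul_smul, smul_smul] at h
  rw [sub_smul, ← h]
  module

/-- An element stabilising a line is a tensor, or there is a non-scalar pair element. -/
theorem tensor_of_line (hno : ¬ Extra D H) (hex : ¬ (a = 2 ∧ ∀ c : F, c = 0 ∨ c = 1))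
    {g : GL (Fin a × Fin b) F} (hg : g ∈ H) {z : Fin b → F} (hz : z ≠ 0)
    (hgz : ∀ u, (g : M2 F a b) *ᵥ pl z u ∈ L z) :
    ∃ (E : (Fin a → F) ≃ₗ[F] (Fin a → F)) (G : (Fin b → F) →ₗ[F] (Fin b → F)),
      Function.Injective G ∧ ∀ u v, (g : M2 F a b) *ᵥ pl v u = pl (G v) (E u) := by
  obtain ⟨E, hE⟩ := exists_onLine hz hgz
  have hform : ∀ {g : GL (Fin a × Fin b) F} {E : (Fin a → F) ≃ₗ[F] (Fin a → F)}, g ∈ H → OnLine g z E →
      ∀ v, HasForm g z E v := by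
    intro g E hg hE v
    have h := S.form_of_scalar (g := g⁻¹) (E := E.symm) hz fun y hy =>
      S.scalar_all hno hex (H.inv_mem hg) hz hy v hE.inv
    rwa [inv_inv, LinearEquiv.symm_symm] at h
  have hpure : ∀ v, ∃ w, ∀ u, (g : M2 F a b) *ᵥ pl v u = pl w (E u) := by
    intro v
    obtain ⟨w, A, hA⟩ := hform hg hE v
    obtain ⟨v', B, hB⟩ := hform (H.inv_mem hg) hE.inv w
    have hA' : ∀ u, ((g⁻¹⁻¹ : GL (Fin a × Fin b) F) : M2 F a b) *ᵥ pl v u =
        pl w (E.symm.symm u) + pl z (A u) :=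
      fun u => by rw [inv_inv, LinearEquiv.symm_symm]; exact hA u
    obtain ⟨ν, hν⟩ := S.central_coeff hno hex (H.inv_mem hg) hz hE.inv hA' hB
    refine ⟨w + ν • z, fun u => ?_⟩
    rw [hA, pl_add_left, pl_smul_left, ← map_smul (pl z), ← map_smul E, ← hν, LinearEquiv.apply_symm_apply]
  obtain ⟨e, he⟩ : ∃ e : Fin a → F, e ≠ 0 := ⟨Pi.single ⟨0, by have := S.two_le; omega⟩ 1, by simp⟩
  obtain ⟨θ, hθ⟩ := exists_dot_eq_one he
  set G : (Fin b → F) →ₗ[F] (Fin b → F) :=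
    TensorMax.D θ ∘ₗ Matrix.mulVecLin (g : M2 F a b) ∘ₗ pr (E.symm e) with hG
  have hGv : ∀ u v, (g : M2 F a b) *ᵥ pl v u = pl (G v) (E u) := fun u v => by
    obtain ⟨w, hw⟩ := hpure v
    have : G v = w := by simp [hG, pr_eq, hw, D_pl, hθ]
    rw [this, hw]
  refine ⟨E, G, ?_, hGv⟩
  rw [← LinearMap.ker_eq_bot, Submodule.eq_bot_iff]
  intro v hv
  have h1 : (g : M2 F a b) *ᵥ pl v (E.symm e) = 0 := by rw [hGv, LinearMap.mem_ker.1 hv, pl_zero_left]
  rw [← mulVec_zero (g : M2 F a b)] at h1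
  by_contra hv0
  obtain ⟨φ, hφ⟩ := exists_dot_eq_one hv0
  have h3 := congrArg (C φ) (gl_mulVec_injective g h1)
  rw [C_pl, hφ, one_smul, map_zero] at h3
  exact he (E.symm.injective (by rw [h3, map_zero]))

end Over

end CfsgLib.TensorSympPair
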