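import Cfsg.Agent.Lib.TensorSympPair.Line

/-!
Without a non-scalar pair element, an overgroup consists of tensors.
-/

set_option autoImplicit false
set_option linter.unusedSectionVars false
set_option linter.unusedSimpArgs false
set_option linter.style.haveILetI false

namespace CfsgLib.TensorSympPair

open Matrix Module QuadraticMap
open CfsgLib.GeomClasses CfsgLib.GeomClasses.TensorMax
open CfsgLib.GeomClasses.TensorMax.Setting (K mem_K)

variable {F : Type*} [Field F] {a b : ℕ}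

attribute [-simp] Matrix.coe_units_inv

/-- A tensor of two maps. -/
def IsPure (g : GL (Fin a × Fin b) F) : Prop :=
  ∃ (E : (Fin a → F) ≃ₗ[F] (Fin a → F)) (G : (Fin b → F) →ₗ[F] (Fin b → F)),
    Function.Injective G ∧ ∀ u v, (g : M2 F a b) *ᵥ pl v u = pl (G v) (E u)

theorem pl_injective {v : Fin b → F} (hv : v ≠ 0) : Function.Injective (pl (a := a) v) := fun u u' h => by
  obtain ⟨θ, hθ⟩ := exists_dot_eq_one hv
  simpa [C_pl, hθ] using congrArg (C θ) h

theorem K_of_pure {g : GL (Fin a × Fin b) F} (hg : IsPure g) {z : Fin b → F} (hz : z ≠ 0) :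
    K g z = ⊥ ∨ K g z = ⊤ := by
  obtain ⟨E, G, hG, h⟩ := hg
  by_cases hc : ∃ c : F, G z = c • z
  · obtain ⟨c, hc⟩ := hc
    refine Or.inr (eq_top_iff.2 fun u _ => ?_)
    rw [mem_K, h, hc, pl_smul_left, ← map_smul]
    exact pl_mem_L _ _
  push Not at hc
  refine Or.inl ((Submodule.eq_bot_iff _).2 fun u hu => ?_)
  obtain ⟨φ, hφz, hφG⟩ := exists_perp_of_notMem hc
  rw [mem_K, h] at hu
  have h1 := C_eq_zero_of_mem_L hφz hu
  rw [C_pl, hφG, one_smul] at h1
  exact E.injective (by rw [h1, map_zero])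

namespace Over

variable {D : Data F a b} {H : Subgroup (GL (Fin a × Fin b) F)} (S : Over D H)
include S

theorem pure_of_image (hno : ¬ Extra D H) (hex : ¬ (a = 2 ∧ ∀ c : F, c = 0 ∨ c = 1))
    {h : GL (Fin a × Fin b) F} (hh : h ∈ H) {s w : Fin b → F} (hs : s ≠ 0)
    (him : ∀ u, (h : M2 F a b) *ᵥ pl s u ∈ L w) : IsPure h := by
  obtain ⟨e, he⟩ : ∃ e : Fin a → F, e ≠ 0 := ⟨Pi.single ⟨0, by have := S.two_le; omega⟩ 1, by simp⟩
  have hw : w ≠ 0 := by
    rintro rfl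
    obtain ⟨y, hy⟩ := him e
    rw [pl_zero_left, ← mulVec_zero (h : M2 F a b)] at hy
    exact he (pl_injective hs (by rw [← gl_mulVec_injective h hy, map_zero]))
  obtain ⟨g, hg, hgw⟩ := CfsgLib.Sp.transitive_ne_zero D.γalt D.γnd.1 w s hw hs
  obtain ⟨k, hk, hk'⟩ := S.exists_right (CfsgLib.Sp.transvGroup_le_isom hg)
  obtain ⟨E, G, hG, hkh⟩ := S.tensor_of_line hno hex (H.mul_mem hk hh) hs fun u => by
    obtain ⟨y, hy⟩ := him u
    rw [gl_mul_mulVec, ← hy, hk', hgw]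
    exact pl_mem_L _ _
  refine ⟨E, g.symm.toLinearMap ∘ₗ G, g.symm.injective.comp hG, fun u v => gl_mulVec_injective k ?_⟩
  show (k : M2 F a b) *ᵥ ((h : M2 F a b) *ᵥ pl v u) = (k : M2 F a b) *ᵥ pl (g.symm (G v)) (E u)
  rw [← gl_mul_mulVec, hkh, hk', LinearEquiv.apply_symm_apply]

/-- The conjugate of a transvection of the right factor. -/
theorem exists_sigma {h : GL (Fin a × Fin b) F} (hh : h ∈ H) (s : Fin b → F) :
    ∃ σ ∈ H, ∀ x, (σ : M2 F a b) *ᵥ x =
      x + (h : M2 F a b) *ᵥ pl s (D.cw s (((h⁻¹ : GL (Fin a × Fin b) F) : M2 F a b) *ᵥ x)) := by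
  have hmem := S.rightT s 1
  rw [one_smul] at hmem
  refine ⟨h * el (ten LinearMap.id (D.gv s) s) * h⁻¹, H.mul_mem (H.mul_mem hh hmem) (H.inv_mem hh), fun x => ?_⟩
  rw [conj_el_mulVec h (ten_sq _ (by rw [D.gv_dot, D.γ_self])), ten_apply, LinearMap.id_apply, D.C_gv]

theorem pure_of_sigma (hno : ¬ Extra D H) (hex : ¬ (a = 2 ∧ ∀ c : F, c = 0 ∨ c = 1))
    {h σ : GL (Fin a × Fin b) F} (hh : h ∈ H) {s : Fin b → F} (hs : s ≠ 0)
    (hσ : ∀ x, (σ : M2 F a b) *ᵥ x =
      x + (h : M2 F a b) *ᵥ pl s (D.cw s (((h⁻¹ : GL (Fin a × Fin b) F) : M2 F a b) *ᵥ x)))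
    (hp : IsPure σ) : IsPure h := by
  obtain ⟨E, G, hG, hσp⟩ := hp
  set hs' : (Fin a → F) →ₗ[F] V2 F a b := Matrix.mulVecLin (h : M2 F a b) ∘ₗ pl s with hhs'
  have hmem : ∀ x, (σ : M2 F a b) *ᵥ x - x ∈ LinearMap.range hs' := fun x => by
    rw [hσ, add_sub_cancel_left]
    exact ⟨_, rfl⟩
  have hrk : finrank F (LinearMap.range hs') ≤ a :=
    (LinearMap.finrank_range_le _).trans (by rw [Module.finrank_fintype_fun_eq_card, Fintype.card_fin])
  obtain ⟨c, hc⟩ : ∃ c : F, ∀ u, E u = c • u := by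
    refine scalar_of_not_nonScalar (P := E.toLinearMap) fun ⟨u, hu⟩ => ?_
    have hu0 : u ≠ 0 := fun h0 => hu 0 (by simp [h0])
    set f : (Fin b → F) →ₗ[F] V2 F a b :=
      (Matrix.mulVecLin (σ : M2 F a b) - LinearMap.id) ∘ₗ pr u with hf
    have hfi : Function.Injective f := by
      rw [← LinearMap.ker_eq_bot, Submodule.eq_bot_iff]
      intro w hw
      simp only [hf, LinearMap.mem_ker, LinearMap.comp_apply, LinearMap.sub_apply, Matrix.mulVecLin_apply,
        LinearMap.id_apply, pr_eq, hσp, sub_eq_zero] at hw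
      have hz : ∀ φ, φ ⬝ᵥ w = 0 := fun φ => by
        have h1 := congrArg (C φ) hw
        rw [C_pl, C_pl] at h1
        by_contra hne
        rcases eq_or_ne (φ ⬝ᵥ G w) 0 with h0 | h0
        · rw [h0, zero_smul] at h1
          exact hne ((smul_eq_zero.1 h1.symm).resolve_right hu0)
        · exact hu ((φ ⬝ᵥ G w)⁻¹ * φ ⬝ᵥ w) (by
            rw [mul_smul, ← h1, smul_smul, inv_mul_cancel₀ h0, one_smul]; rfl)
      by_contra hw0
      obtain ⟨θ, hθ⟩ := exists_dot_eq_one hw0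
      exact one_ne_zero (hθ.symm.trans (hz θ))
    have h1 := LinearMap.finrank_range_of_inj hfi
    have h2 := Submodule.finrank_mono (show LinearMap.range f ≤ LinearMap.range hs' by
      rintro _ ⟨w, rfl⟩
      exact hmem _)
    rw [h1, Module.finrank_fintype_fun_eq_card, Fintype.card_fin] at h2
    have := S.lt
    omega
  set G' : (Fin b → F) →ₗ[F] (Fin b → F) := c • G - LinearMap.id with hG'
  have hG'a : ∀ v u, (σ : M2 F a b) *ᵥ pl v u - pl v u = pl (G' v) u := fun v u => by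
    rw [hσp, hc, hG', LinearMap.sub_apply, LinearMap.smul_apply, LinearMap.id_apply, pl_sub_left, pl_smul_left,
      map_smul]
  obtain ⟨e, he⟩ : ∃ e : Fin a → F, e ≠ 0 := ⟨Pi.single ⟨0, by have := S.two_le; omega⟩ 1, by simp⟩
  obtain ⟨v, hv⟩ : ∃ v, G' v ≠ 0 := by
    by_contra hne
    push Not at hne
    obtain ⟨x₀, hx₀⟩ := D.exists_pair_one hs
    have hid : Matrix.mulVecLin (σ : M2 F a b) = LinearMap.id := ext_pl fun u v => by
      rw [Matrix.mulVecLin_apply, LinearMap.id_apply, ← sub_eq_zero, hG'a, hne, pl_zero_left]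
    have h1 := LinearMap.congr_fun hid ((h : M2 F a b) *ᵥ pl x₀ e)
    rw [Matrix.mulVecLin_apply, LinearMap.id_apply, hσ, add_eq_left, gl_inv_mulVec_mulVec, D.cw_pl, hx₀,
      one_smul, ← mulVec_zero (h : M2 F a b)] at h1
    exact he (pl_injective hs (by rw [gl_mulVec_injective h h1, map_zero]))
  refine S.pure_of_image hno hex hh hs (w := G' v) fun u => ?_
  have hle : LinearMap.range (pl (a := a) (G' v)) ≤ LinearMap.range hs' := by
    rintro _ ⟨u, rfl⟩
    rw [← hG'a]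
    exact hmem _
  have heq := Submodule.eq_of_le_of_finrank_le hle (hrk.trans (by
    rw [LinearMap.finrank_range_of_inj (pl_injective hv), Module.finrank_fintype_fun_eq_card, Fintype.card_fin]))
  show hs' u ∈ LinearMap.range (pl (a := a) (G' v))
  rw [heq]
  exact ⟨u, rfl⟩

/-- Everything is a tensor. -/
theorem pure_all [Fintype F] (hno : ¬ Extra D H) (hex : ¬ (a = 2 ∧ ∀ c : F, c = 0 ∨ c = 1))
    {h : GL (Fin a × Fin b) F} (hh : h ∈ H) : IsPure h := by
  classical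
  by_contra hp
  have ha := S.two_le
  have hb := S.lt
  haveI : Fintype (GL (Fin a × Fin b) F) := Fintype.ofFinite _
  have hbad : ∃ p : GL (Fin a × Fin b) F × (Fin b → F), p.1 ∈ H ∧ K p.1 p.2 ≠ ⊥ ∧ K p.1 p.2 ≠ ⊤ := by
    obtain ⟨s, hs⟩ : ∃ s : Fin b → F, s ≠ 0 := ⟨Pi.single ⟨0, by omega⟩ 1, by simp⟩
    obtain ⟨σ, hσm, hσ⟩ := S.exists_sigma hh s
    obtain ⟨e, he⟩ : ∃ e : Fin a → F, e ≠ 0 := ⟨Pi.single ⟨0, by omega⟩ 1, by simp⟩
    let f : (Fin b → F) →ₗ[F] (Fin a → F) :=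
      D.cw s ∘ₗ Matrix.mulVecLin ((h⁻¹ : GL (Fin a × Fin b) F) : M2 F a b) ∘ₗ pr e
    obtain ⟨z, hz, hz0⟩ := (Submodule.ne_bot_iff _).1 (LinearMap.ker_ne_bot_of_finrank_lt (f := f)
      (by rw [Module.finrank_fintype_fun_eq_card, Module.finrank_fintype_fun_eq_card, Fintype.card_fin,
        Fintype.card_fin]; omega))
    simp only [f, LinearMap.mem_ker, LinearMap.comp_apply, Matrix.mulVecLin_apply, pr_eq] at hz
    refine ⟨(σ, z), hσm, fun h0 => he ?_, fun ht => hp (S.pure_of_sigma hno hex hh hs hσ ?_)⟩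
    · have h1 : e ∈ K σ z := by
        rw [mem_K, hσ, hz, map_zero, mulVec_zero, add_zero]; exact pl_mem_L _ _
      rwa [show K σ z = ⊥ from h0, Submodule.mem_bot] at h1
    · exact S.tensor_of_line hno hex hσm hz0 fun u => mem_K.1 (show u ∈ K σ z by
        rw [show K σ z = ⊤ from ht]; exact Submodule.mem_top)
  obtain ⟨p₀, hp₀⟩ := hbad
  obtain ⟨⟨g, z₀⟩, hmem, hmax⟩ := Finset.exists_max_image
    (Finset.univ.filter fun p : GL (Fin a × Fin b) F × (Fin b → F) =>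
      p.1 ∈ H ∧ K p.1 p.2 ≠ ⊥ ∧ K p.1 p.2 ≠ ⊤)
    (fun p => finrank F (K p.1 p.2)) ⟨p₀, by simp [hp₀]⟩
  simp only [Finset.mem_filter, Finset.mem_univ, true_and] at hmem hmax
  obtain ⟨hg, hK, hK'⟩ := hmem
  have hz₀ : z₀ ≠ 0 := fun e => hK' (eq_top_iff.2 fun u _ => by
    rw [mem_K, e, pl_zero_left, mulVec_zero]; exact Submodule.zero_mem _)
  obtain ⟨σ, hσm, hσ⟩ := S.exists_sigma hg z₀
  have hσp : ¬ IsPure σ := fun hs => by
    rcases K_of_pure (S.pure_of_sigma hno hex hg hz₀ hσ hs) hz₀ with h1 | h1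
    exacts [hK h1, hK' h1]
  obtain ⟨u₁, -, hu₁⟩ := SetLike.exists_of_lt (lt_top_iff_ne_top.2 hK')
  set x₁ := (g : M2 F a b) *ᵥ pl z₀ u₁ with hx₁
  let f : (Fin b → F) →ₗ[F] F × (Fin a → F) :=
    (D.γ z₀).prod { toFun := fun z => D.cw z x₁
                    map_add' := fun z z' => D.cw_add z z' x₁
                    map_smul' := fun c z => D.cw_smul c z x₁ }
  obtain ⟨z₁, hz₁, hz₁0⟩ := (Submodule.ne_bot_iff _).1 (LinearMap.ker_ne_bot_of_finrank_lt (f := f)
    (by rw [Module.finrank_prod, Module.finrank_self, Module.finrank_fintype_fun_eq_card,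
      Module.finrank_fintype_fun_eq_card, Fintype.card_fin, Fintype.card_fin]; omega))
  have hz₁z₀ : D.γ z₀ z₁ = 0 := congrArg Prod.fst hz₁
  have hz₁x : D.cw z₁ x₁ = 0 := congrArg Prod.snd hz₁
  set T : (Fin a → F) →ₗ[F] (Fin a → F) :=
    D.cw z₀ ∘ₗ Matrix.mulVecLin ((g⁻¹ : GL (Fin a × Fin b) F) : M2 F a b) ∘ₗ pl z₁ with hT
  set W := K g z₀ ⊔ Submodule.span F {u₁} with hW
  have hrange : LinearMap.range T ≤ LinearMap.BilinForm.orthogonal D.β W := by
    rintro _ ⟨v, rfl⟩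
    rw [LinearMap.BilinForm.mem_orthogonal_iff]
    intro u hu
    have key : ∀ u, polar D.q (pl z₁ v) ((g : M2 F a b) *ᵥ pl z₀ u) = D.β u (T v) := fun u => by
      rw [hT, LinearMap.comp_apply, LinearMap.comp_apply, Matrix.mulVecLin_apply, ← D.polar_pl_right]
      conv_rhs => rw [← S.polar_g hg, gl_mulVec_inv_mulVec]
    obtain ⟨p, hp', r, hr, rfl⟩ := Submodule.mem_sup.1 hu
    obtain ⟨c, rfl⟩ := Submodule.mem_span_singleton.1 hr
    show D.β (p + c • u₁) (T v) = 0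
    obtain ⟨y, hy⟩ := mem_K.1 hp'
    rw [map_add, map_smul, LinearMap.add_apply, LinearMap.smul_apply, ← key, ← key, ← hx₁, D.polar_pl_left,
      D.polar_pl_left, hz₁x, map_zero, smul_zero, add_zero, ← hy, D.cw_pl, D.γ_zero _ _ hz₁z₀, zero_smul,
      map_zero]
  have h1 := Submodule.finrank_mono hrange
  rw [LinearMap.BilinForm.finrank_orthogonal D.βnd] at h1
  have h2 := LinearMap.finrank_range_add_finrank_ker T
  have hlt : K g z₀ < W := lt_of_le_of_ne le_sup_left fun e =>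
    hu₁ (e ▸ (Submodule.mem_sup_right (Submodule.mem_span_singleton_self u₁) : u₁ ∈ W))
  have h3 := Submodule.finrank_lt_finrank_of_lt hlt
  have h5 := Submodule.finrank_le W
  rw [Module.finrank_fintype_fun_eq_card, Fintype.card_fin] at h1 h2 h5
  have hker : LinearMap.ker T ≤ K σ z₁ := fun u hu => by
    rw [mem_K, hσ]
    simp only [hT, LinearMap.mem_ker, LinearMap.comp_apply, Matrix.mulVecLin_apply] at hu
    rw [hu, map_zero, mulVec_zero, add_zero]
    exact pl_mem_L _ _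
  have h4 := Submodule.finrank_mono hker
  by_cases htop : K σ z₁ = ⊤
  · exact hσp (S.tensor_of_line hno hex hσm hz₁0 fun u => mem_K.1 (show u ∈ K σ z₁ by
      rw [htop]; exact Submodule.mem_top))
  · have hne : K σ z₁ ≠ ⊥ := fun e => by
      rw [e, finrank_bot] at h4
      omega
    have h6 := hmax (σ, z₁) ⟨hσm, hne, htop⟩
    simp only at h6
    omega

end Over

end CfsgLib.TensorSympPair
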