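import Cfsg.Agent.Lib.TensorSympPair.Basic

/-!
Elements of an overgroup which fix a line `U ⊗ z` and act trivially modulo it: without a non-scalar pair
element they are tensors.
-/

set_option autoImplicit false
set_option linter.unusedSectionVars false
set_option linter.unusedSimpArgs false
set_option linter.style.haveILetI false

namespace CfsgLib.TensorSympPair

open Matrix Module QuadraticMap
open CfsgLib.GeomClasses CfsgLib.GeomClasses.TensorMax

variable {F : Type*} [Field F] {a b : ℕ}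

attribute [-simp] Matrix.coe_units_inv

/-- A pair element with non-scalar coefficient. -/
def Extra (D : Data F a b) (H : Subgroup (GL (Fin a × Fin b) F)) : Prop :=
  ∃ (P : (Fin a → F) →ₗ[F] (Fin a → F)) (z w : Fin b → F),
    NonScalar P ∧ z ≠ 0 ∧ (∀ c : F, w ≠ c • z) ∧ D.γ z w = 0 ∧ el (D.e0 z w P) ∈ H

theorem nonScalar_neg {P : (Fin a → F) →ₗ[F] (Fin a → F)} (h : NonScalar P) : NonScalar (-P) := by
  obtain ⟨p, hp⟩ := h
  exact ⟨p, fun c hc => hp (-c) (by rw [neg_smul, ← hc, LinearMap.neg_apply, neg_neg])⟩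

namespace Data

variable (D : Data F a b)

theorem dot_cw (θ : Fin a → F) (y : Fin b → F) (x : V2 F a b) :
    θ ⬝ᵥ D.cw y x = D.γ y (TensorMax.D θ x) := by
  have h : (dotProductBilin F F θ) ∘ₗ D.cw y = (D.γ y) ∘ₗ TensorMax.D θ := ext_pl fun u w => by
    simp [cw_pl, D_pl, dotProduct_smul, mul_comm]
  simpa using LinearMap.congr_fun h x

theorem exists_pair_one {z : Fin b → F} (hz : z ≠ 0) : ∃ x, D.γ z x = 1 := by
  obtain ⟨θ, hθ⟩ := exists_dot_eq_one hz
  obtain ⟨s, rfl⟩ := D.exists_gv θ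
  exact ⟨-s, by rw [map_neg, D.γ_flip s z, neg_neg, ← gv_dot, hθ]⟩

theorem exists_perp_indep (hb : 3 ≤ b) (z : Fin b → F) :
    ∃ y, D.γ z y = 0 ∧ ∀ c : F, y ≠ c • z := by
  obtain ⟨y, hy, hy'⟩ := exists_perp_notMem hb (D.gv z) z
  exact ⟨y, by rw [← gv_dot, dotProduct_comm, hy], hy'⟩

theorem eq_pl_of_perp {z x₀ : Fin b → F} (hx₀ : D.γ z x₀ = 1) {d : V2 F a b}
    (h : ∀ y, D.γ z y = 0 → D.cw y d = 0) : d = pl z (-D.cw x₀ d) := by
  refine sub_eq_zero.1 (D.eq_zero_of_cw fun s => ?_)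
  have hs := h (s - D.γ z s • x₀) (by rw [map_sub, map_smul, hx₀, smul_eq_mul, mul_one, sub_self])
  rw [sub_eq_add_neg, ← neg_smul, cw_add, cw_smul, add_eq_zero_iff_eq_neg, neg_smul, neg_neg] at hs
  rw [map_sub, cw_pl, hs, D.γ_flip z s]
  module

theorem split (z x₀ : Fin b → F) (v : Fin b → F) (u : Fin a → F) :
    pl v u = pl (v - D.γ z v • x₀) u + D.γ z v • pl x₀ u := by
  rw [← pl_smul_left, ← pl_add_left, sub_add_cancel]

end Data

namespace Over

variable {D : Data F a b} {H : Subgroup (GL (Fin a × Fin b) F)} (S : Over D H)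
include S

theorem three_le : 3 ≤ b := by have := S.five_le; omega

theorem isom_pair {z w z' w' : Fin b → F} (hz : z ≠ 0) (hw : ∀ c : F, w ≠ c • z) (hz' : z' ≠ 0)
    (hw' : ∀ c : F, w' ≠ c • z') (h : D.γ z w = D.γ z' w') :
    ∃ g ∈ CfsgLib.Sp.isom D.γ, g z = z' ∧ g w = w' := by
  obtain ⟨g, hg, hgx⟩ := CfsgLib.Sp.witt_family D.γalt D.γnd.1 ![z, w] ![z', w']
    ((LinearIndependent.pair_iff' hz).2 fun c hc => hw c hc.symm)
    ((LinearIndependent.pair_iff' hz').2 fun c hc => hw' c hc.symm)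
    (fun i j => by fin_cases i <;> fin_cases j <;> simp [D.γ_self, h, D.γ_flip z w, D.γ_flip z' w'])
  exact ⟨g, CfsgLib.Sp.transvGroup_le_isom hg, hgx 0, hgx 1⟩

/-- Contractions and a right element. -/
theorem cw_right {k : GL (Fin a × Fin b) F} (hk : k ∈ H) {z z' : Fin b → F}
    (h : ∀ u, (k : M2 F a b) *ᵥ pl z u = pl z' u) (x : V2 F a b) :
    D.cw z' ((k : M2 F a b) *ᵥ x) = D.cw z x :=
  D.eq_of_β fun u => S.cw_move hk (E := LinearMap.id) h x u

theorem central_conj {z z' : Fin b → F} (hz : z ≠ 0) (hz' : z' ≠ 0)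
    {Z : (Fin a → F) →ₗ[F] (Fin a → F)} (hmem : el (D.cz z Z) ∈ H) : el (D.cz z' Z) ∈ H := by
  obtain ⟨g, hg, hgz⟩ := CfsgLib.Sp.transitive_ne_zero D.γalt D.γnd.1 z z' hz hz'
  obtain ⟨k, hk, hk'⟩ := S.exists_right (CfsgLib.Sp.transvGroup_le_isom hg)
  refine mem_of_conj hk hmem (gl_ext fun x => ?_)
  rw [gl_mul_mulVec, gl_mul_mulVec, el_mulVec (D.cz_sq z Z), el_mulVec (D.cz_sq z' Z), mulVec_add, D.cz_apply,
    D.cz_apply, hk', S.cw_right hk (z := z) (z' := z') (fun u => by rw [hk', hgz]), hgz]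

/-- The coefficient of a central element is self-adjoint. -/
theorem central_adj {z : Fin b → F} (hz : z ≠ 0) {Z : (Fin a → F) →ₗ[F] (Fin a → F)}
    (hmem : el (D.cz z Z) ∈ H) : D.adj Z = Z := by
  obtain ⟨x₀, hx₀⟩ := D.exists_pair_one hz
  have key : ∀ u, D.β u (Z u) = 0 := fun u => by
    have h := S.iso _ hmem (pl x₀ u)
    rw [el_mulVec (D.cz_sq z Z), D.cz_apply, D.cw_pl, hx₀, one_smul, QuadraticMap.map_add ⇑D.q, D.q_pl,
      D.q_pl, D.polar_pl, D.γ_flip z x₀, hx₀] at h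
    simpa using h
  refine D.adj_eq fun u v => ?_
  have h := key (u + v)
  simp only [map_add, LinearMap.add_apply, key] at h
  rw [D.β_flip v (Z u)]
  linear_combination -h

theorem extra_of_central {z : Fin b → F} (hz : z ≠ 0) {Z : (Fin a → F) →ₗ[F] (Fin a → F)}
    (hmem : el (D.cz z Z) ∈ H) (hZ : NonScalar Z) : Extra D H := by
  obtain ⟨y, hzy, hy⟩ := D.exists_perp_indep S.three_le z
  have hy0 : y ≠ 0 := fun h => hy 0 (by rw [h, zero_smul])
  have hzy0 : z + y ≠ 0 := fun h => hy (-1) (by rw [neg_one_smul]; exact eq_neg_of_add_eq_zero_right h)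
  have hadj := S.central_adj hz hmem
  have hyz := D.γ_zero _ _ hzy
  have e : el (D.cz z Z) * (el (D.cz y Z) * el (D.e0 z y Z)) = el (D.cz (z + y) Z) := gl_ext fun x => by
    simp only [gl_mul_mulVec, el_mulVec (D.cz_sq _ Z), el_mulVec (D.e0_sq hzy Z), D.cz_apply, D.e0_apply, hadj,
      map_add, D.cw_pl, D.γ_self, hzy, hyz, zero_smul, map_zero, add_zero, D.cw_add, pl_add_left]
    abel
  have h2 := (H.mul_mem_cancel_left hmem).1 (e.symm ▸ S.central_conj hz hzy0 hmem)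
  exact ⟨Z, z, y, hZ, hz, hy, hzy, (H.mul_mem_cancel_left (S.central_conj hz hy0 hmem)).1 h2⟩

/-- A pair element with a central part gives a pair element. -/
theorem extra_of_mixed {z w : Fin b → F} (hz : z ≠ 0) (hw : ∀ c : F, w ≠ c • z) (hzw : D.γ z w = 0)
    {P Z : (Fin a → F) →ₗ[F] (Fin a → F)} (hP : NonScalar P)
    (hmem : el (D.e0 z w P) * el (D.cz z Z) ∈ H) : Extra D H := by
  obtain ⟨θ, hθz, hθw⟩ := exists_perp_of_notMem hw
  obtain ⟨v, rfl⟩ := D.exists_gv θ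
  rw [D.gv_dot] at hθz hθw
  -- a vector orthogonal to `z`, `w` and `v`
  let f : (Fin b → F) →ₗ[F] F × F × F := (D.γ z).prod ((D.γ w).prod (D.γ v))
  obtain ⟨y, hy, hyz⟩ : ∃ y, f y = 0 ∧ ∀ c : F, y ≠ c • z := by
    by_contra hc
    push Not at hc
    have h1 := LinearMap.finrank_range_add_finrank_ker f
    have h2 := Submodule.finrank_le (LinearMap.range f)
    rw [Module.finrank_prod, Module.finrank_prod, Module.finrank_self] at h2
    rw [Module.finrank_fintype_fun_eq_card, Fintype.card_fin] at h1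
    have h3 : LinearMap.ker f ≤ Submodule.span F {z} := fun y hy => by
      obtain ⟨c, rfl⟩ := hc y hy
      exact Submodule.smul_mem _ _ (Submodule.mem_span_singleton_self z)
    have h4 := Submodule.finrank_mono h3
    rw [finrank_span_singleton hz] at h4
    have := S.five_le
    omega
  have hzy : D.γ z y = 0 := congrArg Prod.fst hy
  have hwy : D.γ w y = 0 := congrArg (fun p => p.2.1) hy
  have hvy : D.γ v y = 0 := congrArg (fun p => p.2.2) hy
  have hzwy : D.γ z (w + y) = 0 := by rw [map_add, hzw, hzy, add_zero]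
  have hwy' : ∀ c : F, w + y ≠ c • z := fun c hc => by
    have := congrArg (D.γ v) hc
    simp [hθw, hvy, hθz] at this
  obtain ⟨g, hg, hgz, hgw⟩ := S.isom_pair hz hw hz hwy' (by rw [hzw, hzwy])
  obtain ⟨k, hk, hk'⟩ := S.exists_right hg
  have h2 : el (D.e0 z (w + y) P) * el (D.cz z Z) ∈ H := by
    refine mem_of_conj hk hmem (gl_ext fun x => ?_)
    simp only [gl_mul_mulVec, el_mulVec (D.cz_sq _ Z), el_mulVec (D.e0_sq hzw P), el_mulVec (D.e0_sq hzwy P),
      mulVec_add, D.cz_apply, D.e0_apply, hk', hgz, hgw, map_add, D.cw_pl, D.γ_self, D.γ_zero _ _ hzw,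
      D.γ_zero _ _ hzy, LinearMap.add_apply, zero_smul, map_zero, add_zero,
      S.cw_right hk (z := z) (z' := z) (fun u => by rw [hk', hgz]),
      S.cw_right hk (z := w) (z' := w + y) (fun u => by rw [hk', hgw])]
  rw [D.e0_add_right, add_comm, ← el_mul_el (D.e0_sq hzy P) (D.e0_sq hzw P)
    (D.e0_mul hzy hzw (D.γ_zero _ _ hwy) P P) (D.e0_mul hzw hzy hwy P P), mul_assoc] at h2
  exact ⟨P, z, y, hP, hz, hyz, hzy, (H.mul_mem_cancel_right hmem).1 h2⟩

/-- The commutator of a radical element with a transvection of the right factor. -/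
theorem extra_of_radical {k : GL (Fin a × Fin b) F} (hk : k ∈ H) {z w : Fin b → F} (hz : z ≠ 0)
    (hw : ∀ c : F, w ≠ c • z) (hzw : D.γ z w = 0)
    {T : V2 F a b →ₗ[F] (Fin a → F)} {R : (Fin a → F) →ₗ[F] V2 F a b}
    (hkx : ∀ x, (k : M2 F a b) *ᵥ x = x + pl z (T x) + R (D.cw z x))
    (hTz : ∀ u, T (pl z u) = 0) (hRz : ∀ u, D.cw z (R u) = 0)
    (hRw : ∀ u, D.cw w (R u) = -D.adj (T ∘ₗ pl w) u) (hP : NonScalar (T ∘ₗ pl w)) : Extra D H := by
  set P := T ∘ₗ pl w with hPdef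
  have h1 : D.gv w ⬝ᵥ w = 0 := by rw [D.gv_dot, D.γ_self]
  have hmemT := S.rightT w 1
  rw [one_smul] at hmemT
  refine S.extra_of_mixed hz hw hzw (nonScalar_neg hP) (Z := -(P ∘ₗ D.adj P)) ?_
  refine mem_of_swap hmemT hk (gl_ext fun x => ?_)
  have hwz := D.γ_zero _ _ hzw
  simp only [gl_mul_mulVec, el_mulVec (ten_sq _ h1), el_mulVec (D.e0_sq hzw _), el_mulVec (D.cz_sq z _), hkx,
    ten_apply, LinearMap.id_apply, D.C_gv, D.e0_apply, D.cz_apply, map_add, D.cw_pl, D.γ_self, hzw, hwz,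
    zero_smul, map_zero, add_zero, hRz, hRw, ← hPdef, D.adj_neg, LinearMap.neg_apply, map_neg,
    LinearMap.add_apply, LinearMap.comp_apply, hTz]
  simp only [hPdef, LinearMap.comp_apply]
  abel

/-- An element fixing `U ⊗ z` which is the identity on `(U ⊗ z)^⊥ / (U ⊗ z)`: a tensor, or an extra. -/
theorem radical_tensor {k : GL (Fin a × Fin b) F} (hk : k ∈ H) {z : Fin b → F} (hz : z ≠ 0)
    (hkz : ∀ u, (k : M2 F a b) *ᵥ pl z u = pl z u)
    (hkp : ∀ v, D.γ z v = 0 → ∃ R : (Fin a → F) →ₗ[F] (Fin a → F),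
      ∀ u, (k : M2 F a b) *ᵥ pl v u = pl v u + pl z (R u)) :
    Extra D H ∨ ∃ G : (Fin b → F) →ₗ[F] (Fin b → F), ∀ u v, (k : M2 F a b) *ᵥ pl v u = pl (G v) u := by
  classical
  refine or_iff_not_imp_left.2 fun hno => ?_
  obtain ⟨x₀, hx₀⟩ := D.exists_pair_one hz
  have hx₀z : D.γ x₀ z = -1 := by rw [D.γ_flip z x₀, hx₀]
  set K : V2 F a b →ₗ[F] V2 F a b := Matrix.mulVecLin (k : M2 F a b) - LinearMap.id with hK
  have hKa : ∀ x, K x = (k : M2 F a b) *ᵥ x - x := fun x => by simp [hK]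
  set R0 : (Fin a → F) →ₗ[F] V2 F a b := K ∘ₗ pl x₀ with hR0
  set T : V2 F a b →ₗ[F] (Fin a → F) :=
    -(D.cw x₀ ∘ₗ K ∘ₗ (LinearMap.id - pl x₀ ∘ₗ D.cw z)) with hT
  have hproj : ∀ v u, (LinearMap.id - pl x₀ ∘ₗ D.cw z : V2 F a b →ₗ[F] V2 F a b) (pl v u) =
      pl (v - D.γ z v • x₀) u := fun v u => by
    simp [D.cw_pl, pl_sub_left, pl_smul_left]
  have hTperp : ∀ v u, D.γ z v = 0 → pl z (T (pl v u)) = K (pl v u) := fun v u hv => by
    obtain ⟨R, hR⟩ := hkp v hv
    have hKv : K (pl v u) = pl z (R u) := by rw [hKa, hR, add_sub_cancel_left]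
    simp only [hT, LinearMap.neg_apply, LinearMap.comp_apply, hproj, hv, zero_smul, sub_zero, hKv, D.cw_pl, hx₀z,
      neg_one_smul, neg_neg]
  have hform : ∀ x, (k : M2 F a b) *ᵥ x = x + pl z (T x) + R0 (D.cw z x) := by
    have h : K = pl z ∘ₗ T + R0 ∘ₗ D.cw z := ext_pl fun u v => by
      have hv : D.γ z (v - D.γ z v • x₀) = 0 := by rw [map_sub, map_smul, hx₀, smul_eq_mul, mul_one, sub_self]
      have hT' : T (pl v u) = T (pl (v - D.γ z v • x₀) u) := by
        simp only [hT, LinearMap.neg_apply, LinearMap.comp_apply, hproj, hv, zero_smul, sub_zero]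
      rw [LinearMap.add_apply, LinearMap.comp_apply, LinearMap.comp_apply, hT', hTperp _ _ hv, D.cw_pl,
        map_smul]
      conv_lhs => rw [D.split z x₀ v u, map_add, map_smul]
      rfl
    intro x
    have h' := LinearMap.congr_fun h x
    rw [hKa, LinearMap.add_apply, LinearMap.comp_apply, LinearMap.comp_apply, sub_eq_iff_eq_add'] at h'
    rw [h', add_assoc]
  have hTz : ∀ u, T (pl z u) = 0 := fun u => by
    simp [hT, hKa, hproj, D.γ_self, hkz]
  have hRz : ∀ u, D.cw z (R0 u) = 0 := fun u => D.eq_of_β fun v => by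
    rw [← D.polar_pl_right, map_zero, hR0, LinearMap.comp_apply, hKa, polar_sub_left]
    nth_rw 1 [← hkz v]
    rw [S.polar_g hk, sub_self]
  have hRw : ∀ w, D.γ z w = 0 → ∀ u, D.cw w (R0 u) = -D.adj (T ∘ₗ pl w) u := fun w hw u =>
    D.eq_of_β fun v => by
      have h := S.polar_g hk (pl x₀ u) (pl w v)
      rw [hform (pl w v), D.cw_pl, hw, zero_smul, map_zero, add_zero,
        show (k : M2 F a b) *ᵥ pl x₀ u = pl x₀ u + R0 u by simp [hR0, hKa], polar_add_left, polar_add_right,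
        polar_add_right, add_assoc, add_eq_left, D.polar_pl, D.polar_pl_right, D.polar_pl_right, hRz,
        map_zero, add_zero, hx₀z] at h
      rw [map_neg, D.adj_right, D.β_flip u ((T ∘ₗ pl w) v)]
      simp only [LinearMap.comp_apply] at h ⊢
      linear_combination h
  have hscal : ∀ v, D.γ z v = 0 → ∃ l : F, ∀ u, T (pl v u) = l • u := fun v hv => by
    by_cases hc : ∃ c : F, v = c • z
    · obtain ⟨c, rfl⟩ := hc
      exact ⟨0, fun u => by rw [pl_smul_left, map_smul, hTz, smul_zero, zero_smul]⟩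
    push Not at hc
    exact scalar_of_not_nonScalar fun hP => hno (S.extra_of_radical hk hz hc hv hform hTz hRz (hRw v hv) hP)
  -- split off a pair element with scalar coefficient
  obtain ⟨e, he⟩ : ∃ e : Fin a → F, e ≠ 0 := ⟨Pi.single ⟨0, by have := S.two_le; omega⟩ 1, by simp⟩
  obtain ⟨θ, hθ⟩ := exists_dot_eq_one he
  set Lm : (Fin b → F) →ₗ[F] F :=
    (dotProductBilin F F θ) ∘ₗ T ∘ₗ pr e ∘ₗ (LinearMap.id - (D.γ z).smulRight x₀) with hLm
  obtain ⟨y, hy⟩ := D.exists_gv fun i => Lm (Pi.single i 1)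
  have hyL : ∀ v, D.γ y v = Lm v := fun v => by
    conv_rhs => rw [pi_eq_sum_univ' v, map_sum]
    rw [← D.gv_dot, hy]
    simp only [map_smul, smul_eq_mul, dotProduct]
    exact Finset.sum_congr rfl fun i _ => mul_comm _ _
  have hTy : ∀ v, D.γ z v = 0 → ∀ u, T (pl v u) = D.γ y v • u := fun v hv u => by
    obtain ⟨l, hl⟩ := hscal v hv
    suffices hl' : D.γ y v = l by rw [hl, hl']
    rw [hyL, hLm]
    simp [hv, pr_eq, hl, dotProduct_smul, hθ]
  have hyz : D.γ y z = 0 := by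
    rw [hyL, hLm]
    simp [D.γ_self, pr_eq, hTz]
  have hzy : D.γ z y = 0 := D.γ_zero _ _ hyz
  set E0 := D.e0 z y (-LinearMap.id) with hE0
  have hE0sq : ∀ x, E0 (E0 x) = 0 := D.e0_sq hzy _
  have hE0mem : el E0 ∈ H := by
    rw [hE0, show (-LinearMap.id : (Fin a → F) →ₗ[F] (Fin a → F)) = (-1 : F) • LinearMap.id from (neg_one_smul F _).symm]
    exact S.cross_mem hzy (-1)
  set k₀ := k * el E0 with hk₀
  have hk₀mem : k₀ ∈ H := H.mul_mem hk hE0mem
  have hk₀perp : ∀ v u, D.γ z v = 0 → (k₀ : M2 F a b) *ᵥ pl v u = pl v u := fun v u hv => by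
    rw [hk₀, gl_mul_mulVec, el_mulVec hE0sq, hE0, D.e0_apply, D.cw_pl, D.cw_pl, hv, zero_smul, map_zero, map_zero,
      add_zero, LinearMap.neg_apply, LinearMap.id_apply, map_neg, map_smul, ← sub_eq_add_neg, mulVec_sub,
      mulVec_smul, hkz, hform, hTy v hv, D.cw_pl, hv, zero_smul, map_zero, add_zero, map_smul, add_sub_cancel_right]
  set Z : (Fin a → F) →ₗ[F] (Fin a → F) :=
    -(D.cw x₀ ∘ₗ (Matrix.mulVecLin (k₀ : M2 F a b) - LinearMap.id) ∘ₗ pl x₀) with hZ
  have hk₀x : ∀ u, (k₀ : M2 F a b) *ᵥ pl x₀ u = pl x₀ u + pl z (Z u) := fun u => by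
    have h : (k₀ : M2 F a b) *ᵥ pl x₀ u - pl x₀ u =
        pl z (-D.cw x₀ ((k₀ : M2 F a b) *ᵥ pl x₀ u - pl x₀ u)) :=
      D.eq_pl_of_perp hx₀ fun v hv => D.eq_of_β fun p => by
        rw [← D.polar_pl_right, map_zero, polar_sub_left]
        nth_rw 1 [← hk₀perp v p hv]
        rw [S.polar_g hk₀mem, sub_self]
    rw [eq_add_of_sub_eq' h]
    simp [hZ]
  have hk₀eq : k₀ = el (D.cz z Z) := gl_ext fun x => by
    rw [el_mulVec (D.cz_sq z Z)]
    have h : Matrix.mulVecLin (k₀ : M2 F a b) = LinearMap.id + D.cz z Z := ext_pl fun u v => by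
      have hv : D.γ z (v - D.γ z v • x₀) = 0 := by rw [map_sub, map_smul, hx₀, smul_eq_mul, mul_one, sub_self]
      conv_lhs => rw [Matrix.mulVecLin_apply, D.split z x₀ v u, mulVec_add, mulVec_smul, hk₀perp _ _ hv, hk₀x]
      rw [LinearMap.add_apply, LinearMap.id_apply, D.cz_apply, D.cw_pl, map_smul, map_smul]
      conv_rhs => rw [D.split z x₀ v u]
      module
    have h' := LinearMap.congr_fun h x
    simpa using h'
  obtain ⟨c, hc⟩ := scalar_of_not_nonScalar fun hP => hno (S.extra_of_central hz (hk₀eq ▸ hk₀mem) hP)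
  have hkeq : k = el (D.cz z Z) * (el E0)⁻¹ := by rw [← hk₀eq, hk₀, mul_inv_cancel_right]
  refine ⟨LinearMap.id + (D.γ y).smulRight z + (D.γ z).smulRight y + (c • D.γ z).smulRight z, fun u v => ?_⟩
  have hE0sq' : ∀ x, (-E0) ((-E0) x) = 0 := fun x => by
    rw [LinearMap.neg_apply, LinearMap.neg_apply, map_neg, hE0sq, neg_zero, neg_zero]
  rw [hkeq, ← el_neg hE0sq, gl_mul_mulVec, el_mulVec hE0sq', el_mulVec (D.cz_sq z Z)]
  simp only [hE0, LinearMap.neg_apply, D.e0_apply, D.cz_apply, D.adj_neg, D.adj_id, LinearMap.id_apply, map_neg,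
    map_add, neg_neg, D.cw_pl, D.γ_self, hzy, zero_smul, neg_zero, add_zero, hc, map_smul, LinearMap.add_apply,
    LinearMap.smulRight_apply, LinearMap.smul_apply, smul_eq_mul, map_zero, neg_add_rev, pl_add_left, pl_smul_left,
    smul_zero]
  module

end Over

end CfsgLib.TensorSympPair
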